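import Cfsg.Agent.Lib.NineNormalizer.Model
import Cfsg.Agent.Lib.Char.Induced
import Cfsg.Agent.Lib.Char.Linear
import Mathlib.Analysis.Real.Sqrt

/-!
The lattice of generalized characters of `3³:S₄` vanishing off the elements with a power a nontrivial
translation: nine generators, their Gram matrix, and the indicators of the classes of translations.
-/

set_option autoImplicit false
set_option maxRecDepth 100000

open scoped ComplexConjugate

namespace CfsgLib.Nine

/-- a twelfth root of unity -/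
noncomputable def zeta : ℂ := ⟨Real.sqrt 3 / 2, 1 / 2⟩

theorem zeta_sq : zeta ^ 2 = ⟨1 / 2, Real.sqrt 3 / 2⟩ := by
  have h := Real.mul_self_sqrt (show (0 : ℝ) ≤ 3 by norm_num)
  rw [sq]
  apply Complex.ext <;> simp [zeta, Complex.mul_re, Complex.mul_im] <;> nlinarith

theorem zeta_four : zeta ^ 4 = zeta ^ 2 - 1 := by
  have h := Real.mul_self_sqrt (show (0 : ℝ) ≤ 3 by norm_num)
  rw [show (4 : ℕ) = 2 * 2 from rfl, pow_mul, zeta_sq, sq]
  apply Complex.ext <;> simp [Complex.mul_re, Complex.mul_im] <;> nlinarith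

theorem zeta_six : zeta ^ 6 = -1 := by linear_combination (zeta ^ 2 + 1) * zeta_four
theorem zeta_twelve : zeta ^ 12 = 1 := by linear_combination (zeta ^ 6 - 1) * zeta_six

theorem zeta_mod (e : ℕ) : zeta ^ e = zeta ^ (e % 12) := by
  conv_lhs => rw [← Nat.mod_add_div e 12, pow_add, pow_mul, zeta_twelve, one_pow, mul_one]

theorem conj_zeta : conj zeta = zeta ^ 11 := by
  have h : zeta * zeta ^ 11 = 1 := by rw [← pow_succ', zeta_twelve]
  have h' : zeta * conj zeta = 1 := by
    have hs := Real.mul_self_sqrt (show (0 : ℝ) ≤ 3 by norm_num)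
    apply Complex.ext <;> simp [zeta, Complex.mul_re, Complex.mul_im] <;> nlinarith
  exact mul_left_cancel₀ (fun e => by rw [e, zero_mul] at h; exact zero_ne_one h) (h'.trans h.symm)

/-- a formal sum of powers of the root of unity -/
noncomputable def ev12 (L : List (ℤ × ℕ)) : ℂ := (L.map fun p => (p.1 : ℂ) * zeta ^ p.2).sum

/-- the table of reduced powers -/
def red : List (List ℤ) := [[1, 0, 0, 0], [0, 1, 0, 0], [0, 0, 1, 0], [0, 0, 0, 1], [-1, 0, 1, 0], [0, -1, 0, 1],
  [-1, 0, 0, 0], [0, -1, 0, 0], [0, 0, -1, 0], [0, 0, 0, -1], [1, 0, -1, 0], [0, 1, 0, -1]]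

/-- coordinates -/
def coord (k : ℕ) (L : List (ℤ × ℕ)) : ℤ := (L.map fun p => p.1 * (red.getD (p.2 % 12) []).getD k 0).sum

theorem zeta_red (e : ℕ) : zeta ^ e = ((red.getD (e % 12) []).getD 0 0 : ℤ) + ((red.getD (e % 12) []).getD 1 0 : ℤ) * zeta +
    ((red.getD (e % 12) []).getD 2 0 : ℤ) * zeta ^ 2 + ((red.getD (e % 12) []).getD 3 0 : ℤ) * zeta ^ 3 := by
  rw [zeta_mod e]
  have h : e % 12 < 12 := Nat.mod_lt _ (by norm_num)
  have z4 := zeta_four
  have z6 := zeta_six
  interval_cases (e % 12) <;> simp [red] <;>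
    first
      | linear_combination z4
      | linear_combination zeta * z4
      | linear_combination z6
      | linear_combination zeta * z6
      | linear_combination zeta ^ 2 * z6
      | linear_combination zeta ^ 3 * z6
      | linear_combination zeta ^ 4 * z6 - z4
      | linear_combination zeta ^ 5 * z6 - zeta * z4

theorem ev12_coord (L : List (ℤ × ℕ)) : ev12 L = (coord 0 L : ℂ) + (coord 1 L : ℂ) * zeta +
    (coord 2 L : ℂ) * zeta ^ 2 + (coord 3 L : ℂ) * zeta ^ 3 := by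
  induction L with
  | nil => simp [ev12, coord]
  | cons p L ih =>
    simp only [ev12, coord] at ih
    simp only [ev12, coord, List.map_cons, List.sum_cons]
    rw [ih, zeta_red p.2]
    push_cast
    ring

theorem ev12_eq_int {L : List (ℤ × ℕ)} {n : ℤ}
    (h : [coord 0 L, coord 1 L, coord 2 L, coord 3 L] = [n, 0, 0, 0]) : ev12 L = n := by
  simp only [List.cons.injEq, and_true] at h
  rw [ev12_coord, h.1, h.2.1, h.2.2.1, h.2.2.2]
  simp

/-- scaling -/
def scale (c : ℤ) (L : List (ℤ × ℕ)) : List (ℤ × ℕ) := L.map fun p => (c * p.1, p.2)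

/-- product with the conjugate -/
def mulConj (L M : List (ℤ × ℕ)) : List (ℤ × ℕ) := L.flatMap fun p => M.map fun q => (p.1 * q.1, p.2 + 11 * q.2)

theorem ev12_append (L M : List (ℤ × ℕ)) : ev12 (L ++ M) = ev12 L + ev12 M := by simp [ev12]

theorem ev12_flatMap {α : Type*} (L : List α) (F : α → List (ℤ × ℕ)) :
    ev12 (L.flatMap F) = (L.map fun a => ev12 (F a)).sum := by
  induction L with
  | nil => simp [ev12]
  | cons a L ih => rw [List.flatMap_cons, ev12_append, ih, List.map_cons, List.sum_cons]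

theorem ev12_scale (c : ℤ) (L : List (ℤ × ℕ)) : ev12 (scale c L) = c * ev12 L := by
  induction L with
  | nil => simp [ev12, scale]
  | cons p L ih =>
    simp only [ev12, scale, List.map_cons, List.sum_cons] at ih ⊢
    rw [ih]; push_cast; ring

theorem ev12_mulConj (L M : List (ℤ × ℕ)) : ev12 (mulConj L M) = ev12 L * conj (ev12 M) := by
  have key : ∀ p : ℤ × ℕ, ev12 (M.map fun q => (p.1 * q.1, p.2 + 11 * q.2)) =
      (p.1 : ℂ) * zeta ^ p.2 * conj (ev12 M) := by
    intro p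
    induction M with
    | nil => simp [ev12]
    | cons q M ih =>
      simp only [ev12, List.map_cons, List.sum_cons, map_add, map_mul, map_pow, map_intCast, conj_zeta] at ih ⊢
      rw [ih, pow_add, pow_mul]; push_cast; ring
  rw [mulConj, ev12_flatMap]
  simp only [key]
  rw [List.sum_map_mul_right]
  rfl

/-- the pairing -/
def pair (l v : Fin 27) : ℕ := ((l.val % 3) * (v.val % 3) + (l.val / 3 % 3) * (v.val / 3 % 3) + (l.val / 9) * (v.val / 9)) % 3

/-- the linear character of the stabilizer, extended by zero -/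
def muExt (d : Mono) (x : Mdl) : List (ℤ × ℕ) :=
  if x.s ∈ d.K then [(1, 4 * pair d.wt x.v + (d.ex.getD (d.K.idxOf x.s) 0).val)] else []

/-- the monomial character -/
def chi (d : Mono) (x : Mdl) : List (ℤ × ℕ) := d.T.flatMap fun t => muExt d ((⟨0, t⟩ : Mdl)⁻¹ * x * ⟨0, t⟩)

/-- the checks on the data -/
def Good (d : Mono) : Prop :=
  (0 : Fin 24) ∈ d.K ∧ (∀ s ∈ d.K, sinv s ∈ d.K) ∧ (∀ s ∈ d.K, ∀ t ∈ d.K, smul' s t ∈ d.K ∧
    ((d.ex.getD (d.K.idxOf s) 0).val + (d.ex.getD (d.K.idxOf t) 0).val) % 12 =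
      (d.ex.getD (d.K.idxOf (smul' s t)) 0).val) ∧
  (∀ v w : Fin 27, pair d.wt (vadd v w) = (pair d.wt v + pair d.wt w) % 3) ∧
  (∀ s ∈ d.K, ∀ v : Fin 27, pair d.wt (act s v) = pair d.wt v) ∧
  d.T.Nodup ∧ (∀ s : Fin 24, (d.T.filter fun t => decide (smul' (sinv t) s ∈ d.K)).length = 1)

set_option synthInstance.maxSize 2000 in
instance : DecidablePred Good := fun d => by unfold Good; infer_instance

theorem mono_good : ∀ d ∈ mono, Good d := by decide +kernel

/-- the stabilizer -/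
def stab (d : Mono) (h : Good d) : Subgroup Mdl where
  carrier := {x | x.s ∈ d.K}
  one_mem' := h.1
  mul_mem' {x y} hx hy := (h.2.2.1 _ hx _ hy).1
  inv_mem' {x} hx := h.2.1 _ hx

theorem isGen_chi {d : Mono} (h : Good d) : Cfsg.IsGeneralizedCharacter Mdl (fun x => ev12 (chi d x)) := by
  classical
  set S := stab d h
  have hz : zeta ≠ 0 := fun e => by
    have := zeta_twelve
    rw [e, zero_pow (by norm_num)] at this
    exact zero_ne_one this
  set u : ℂˣ := Units.mk0 zeta hz with hu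
  have hu12 : u ^ 12 = 1 := Units.ext (by simp [hu, zeta_twelve])
  have umod : ∀ a : ℕ, u ^ a = u ^ (a % 12) := fun a => by
    conv_lhs => rw [← Nat.mod_add_div a 12, pow_add, pow_mul, hu12, one_pow, mul_one]
  set ee : Mdl → ℕ := fun x => 4 * pair d.wt x.v + (d.ex.getD (d.K.idxOf x.s) 0).val with hee
  let f : S →* ℂˣ := MonoidHom.mk' (fun x => u ^ ee x.1) fun x y => by
    rw [← pow_add, umod (ee x.1 + ee y.1), umod (ee (x * y).1)]
    congr 1
    have e1 : pair d.wt ((x * y).1).v = (pair d.wt (x.1).v + pair d.wt (y.1).v) % 3 := by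
      show pair d.wt (vadd _ (act _ _)) = _
      rw [h.2.2.2.1, h.2.2.2.2.1 _ x.2]
    have e2 := (h.2.2.1 _ x.2 _ y.2).2
    have e3 : ((x * y).1).s = smul' (x.1).s (y.1).s := rfl
    simp only [hee, e1, e3]
    omega
  have hgen := Char.IsGeneralizedCharacter.indFun (G := Mdl) S
    (Char.IsIrrCharacter.isGeneralizedCharacter (Char.isIrrCharacter_linear f))
  have hcl : Cfsg.IsClassFunction S (fun x => (f x : ℂ)) := fun x y => by
    show (f (y * x * y⁻¹) : ℂ) = f x
    rw [map_mul, map_mul, map_inv, mul_comm (f y), mul_inv_cancel_right]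
  convert hgen using 1
  funext g
  set F : Mdl → ℂ := Cfsg.extendByZero S (fun x => (f x : ℂ)) with hF
  have hmu : ∀ x, ev12 (muExt d x) = F x := by
    intro x
    by_cases hx : x.s ∈ d.K
    · rw [hF, Char.extendByZero_apply_mem S _ (show x ∈ S from hx), muExt, if_pos hx]
      simp [ev12, f, hee, hu]
    · rw [hF, Char.extendByZero_of_notMem S _ (show x ∉ S from hx), muExt, if_neg hx]
      simp [ev12]
  rw [chi, ev12_flatMap, Char.indFun_apply, ← List.sum_toFinset _ h.2.2.2.2.2.1]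
  simp only [hmu]
  have huni : ∀ x : Mdl, ∃ t ∈ d.T.toFinset, d.T.toFinset.filter (fun t => (⟨0, t⟩ : Mdl)⁻¹ * x ∈ S) = {t} := by
    intro x
    obtain ⟨t, ht⟩ := List.length_eq_one_iff.1 (h.2.2.2.2.2.2 x.s)
    have hk : ∀ t', (t' ∈ d.T ∧ smul' (sinv t') x.s ∈ d.K) ↔ t' = t := fun t' => by
      rw [← List.mem_singleton (a := t') (b := t), ← ht]; simp
    refine ⟨t, List.mem_toFinset.2 ((hk t).2 rfl).1, Finset.ext fun t' => ?_⟩
    rw [Finset.mem_filter, List.mem_toFinset, Finset.mem_singleton]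
    exact hk t'
  have e1 : ∑ x : Mdl, F (x⁻¹ * g * x) = ∑ x : Mdl, ∑ t ∈ d.T.toFinset.filter (fun t => (⟨0, t⟩ : Mdl)⁻¹ * x ∈ S),
      F ((⟨0, t⟩ : Mdl)⁻¹ * g * ⟨0, t⟩) := by
    refine Finset.sum_congr rfl fun x _ => ?_
    obtain ⟨t, -, ht⟩ := huni x
    rw [ht, Finset.sum_singleton]
    have htx : (⟨0, t⟩ : Mdl)⁻¹ * x ∈ S := (Finset.mem_filter.1 (show t ∈ Finset.filter _ _ by
      rw [ht]; exact Finset.mem_singleton_self t)).2
    have := Char.extendByZero_conj S (fun x => (f x : ℂ)) hcl (⟨_, htx⟩⁻¹) ((⟨0, t⟩ : Mdl)⁻¹ * g * ⟨0, t⟩)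
    simp only [Subgroup.coe_inv, inv_inv] at this
    rw [hF, ← this]
    congr 1
    group
  rw [← hF, e1, Finset.sum_comm' (t' := d.T.toFinset) (s' := fun t => Finset.univ.filter fun x => (⟨0, t⟩ : Mdl)⁻¹ * x ∈ S)
    (fun x t => by simp [and_comm])]
  have hcard : ∀ t, (Finset.univ.filter fun x => (⟨0, t⟩ : Mdl)⁻¹ * x ∈ S).card = Nat.card S := by
    intro t
    rw [Nat.card_eq_fintype_card, Fintype.card_subtype]
    exact Finset.card_equiv (Equiv.mulLeft (⟨0, t⟩ : Mdl)⁻¹) fun x => by simp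
  simp only [Finset.sum_const, hcard, nsmul_eq_mul, ← Finset.mul_sum]
  rw [← mul_assoc, inv_mul_cancel₀ (Nat.cast_ne_zero.mpr Nat.card_pos.ne'), one_mul]

/-- the generators of the lattice as combinations of monomial characters -/
def bL : List (List (ℤ × ℕ)) := [[(1, 7), (-1, 8)], [(1, 12), (-1, 13)], [(1, 7), (-1, 3), (1, 1), (-1, 4), (1, 0)], [(1, 12), (-1, 7), (-1, 2), (1, 0)], [(1, 5), (-1, 2), (-1, 3), (1, 1)], [(1, 6), (-1, 1), (-1, 2), (2, 0), (-1, 4)], [(1, 11), (-1, 7), (-1, 0), (-1, 1)], [(1, 9), (-1, 6), (-1, 7), (-1, 0), (1, 1)], [(1, 10), (-1, 5), (-1, 7), (-1, 1), (1, 0)]]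

/-- the generators of the lattice, as formal sums -/
def bF (j : ℕ) (x : Mdl) : List (ℤ × ℕ) :=
  (bL.getD j []).flatMap fun p => scale p.1 (chi (mono.getD p.2 ⟨0, [], [], []⟩) x)

/-- the generators of the lattice -/
noncomputable def bv (j : ℕ) (x : Mdl) : ℂ := ev12 (bF j x)

theorem bL_bound : ∀ j : ℕ, j < 9 → ∀ p ∈ bL.getD j [], p.2 < mono.length := by decide +kernel

theorem isGen_bv {j : ℕ} (hj : j < 9) : Cfsg.IsGeneralizedCharacter Mdl (bv j) := by
  have key : ∀ l : List (ℤ × ℕ), (∀ p ∈ l, p.2 < mono.length) → Cfsg.IsGeneralizedCharacter Mdl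
      (fun x => ev12 (l.flatMap fun p => scale p.1 (chi (mono.getD p.2 ⟨0, [], [], []⟩) x))) := by
    intro l
    induction l with
    | nil => intro _; convert Char.IsGeneralizedCharacter.zero (G := Mdl) using 1; funext x; simp [ev12]
    | cons p l ih =>
      intro hl
      have hp := hl p (List.mem_cons_self ..)
      convert Char.IsGeneralizedCharacter.add (Char.IsGeneralizedCharacter.intCast_smul
        (isGen_chi (mono_good _ (List.getElem_mem hp))) p.1) (ih fun q hq => hl q (List.mem_cons_of_mem _ hq)) using 1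
      funext x
      simp [List.flatMap_cons, ev12_append, ev12_scale, List.getD_eq_getElem?_getD, List.getElem?_eq_getElem hp]
  exact key _ (bL_bound j hj)

/-- the Gram matrix -/
def gram (i j : ℕ) : ℤ := (([[2, 0, 1, -1, 0, 0, -1, -1, -1], [0, 2, 0, 1, 0, 0, 0, 0, 0], [1, 0, 3, -1, 1, 1, -1, -1, -1], [-1, 1, -1, 3, 1, 1, 1, 1, 1], [0, 0, 1, 1, 4, 1, 1, 1, -2], [0, 0, 1, 1, 1, 4, 1, -2, 1], [-1, 0, -1, 1, 1, 1, 4, 1, 1], [-1, 0, -1, 1, 1, -2, 1, 5, -1], [-1, 0, -1, 1, -2, 1, 1, -1, 5]] : List (List ℤ)).getD i []).getD j 0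

/-- inner products with the trivial character -/
def triv (j : ℕ) : ℤ := ([0, 0, 0, 0, -1, 0, -1, -1, 1] : List ℤ).getD j 0

theorem gram_check : ∀ i : ℕ, i < 9 → ∀ j : ℕ, j ≤ i →
    [0, 1, 2, 3].map (fun k => coord k ((List.finRange 14).flatMap fun r =>
      scale (size r : ℤ) (mulConj (bF i (rep r)) (bF j (rep r))))) = [648 * gram i j, 0, 0, 0] := by decide +kernel

theorem triv_check : ∀ j : ℕ, j < 9 →
    [0, 1, 2, 3].map (fun k => coord k ((List.finRange 14).flatMap fun r => scale (size r : ℤ) (bF j (rep r)))) =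
      [648 * triv j, 0, 0, 0] := by decide +kernel

theorem supp_check : ∀ j : ℕ, j < 9 → ∀ r ∈ [(0 : Fin 14), 4, 5, 6, 7],
    [0, 1, 2, 3].map (fun k => coord k (bF j (rep r))) = [0, 0, 0, 0] := by decide +kernel

/-- the coefficients of the class indicators -/
def phiC (i : Fin 3) : List ℤ :=
  ![[-3, 4, -6, -8, 3, 3, -4, 0, 0], [0, -2, 0, 4, -3, -3, 2, -3, -3], [3, 1, -3, -2, 0, 0, -1, 3, 3]] i

theorem phi_check : ∀ i : Fin 3, ∀ r : Fin 14,
    [0, 1, 2, 3].map (fun k => coord k ((List.range 9).flatMap fun j => scale ((phiC i).getD j 0) (bF j (rep r)))) =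
      [if r = wcl i then (csz i : ℤ) else 0, 0, 0, 0] := by decide +kernel

theorem bv_class {j : ℕ} (hj : j < 9) (g x : Mdl) : bv j (g * x * g⁻¹) = bv j x :=
  Char.IsGeneralizedCharacter.isClassFunction (isGen_bv hj) x g

theorem classInner_bv {i j : ℕ} (hi : i < 9) (hji : j ≤ i) :
    Cfsg.classInner (bv i) (bv j) = (gram i j : ℂ) := by
  have hj : j < 9 := lt_of_le_of_lt hji hi
  have h := ev12_eq_int (gram_check i hi j hji)
  rw [ev12_flatMap, ← Fin.sum_univ_def] at h
  simp only [ev12_scale, ev12_mulConj] at h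
  have h2 := sum_classes (fun x => bv i x * conj (bv j x)) fun g x => by rw [bv_class hi, bv_class hj]
  simp only [bv, Int.cast_natCast] at h h2
  unfold Cfsg.classInner
  rw [Nat.card_eq_fintype_card, card_mdl]
  simp only [bv]
  rw [h2, h]
  push_cast
  ring

theorem sum_bv {j : ℕ} (hj : j < 9) : ∑ x, bv j x = 648 * (triv j : ℂ) := by
  have h := ev12_eq_int (triv_check j hj)
  rw [ev12_flatMap, ← Fin.sum_univ_def] at h
  simp only [ev12_scale, Int.cast_natCast] at h
  rw [sum_classes (bv j) (bv_class hj)]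
  simp only [bv]
  rw [h]
  push_cast
  ring

theorem bv_supp {j : ℕ} (hj : j < 9) {x : Mdl} (hx : bv j x ≠ 0) :
    ∃ k : ℕ, IsTr (x ^ k) ∧ x ^ k ≠ 1 := by
  obtain ⟨h, hh⟩ := exists_conj_rep x
  have hr : cls x ∉ [(0 : Fin 14), 4, 5, 6, 7] := fun hm => hx (by
    rw [← hh, bv_class hj, bv, ev12_eq_int (n := 0) (supp_check j hj _ hm), Int.cast_zero])
  obtain ⟨k, hk1, hk2⟩ := support _ hr
  refine ⟨k, ?_, ?_⟩
  · rw [← hh, conj_pow]
    exact trans_normal.conj_mem _ hk1 h
  · rw [← hh, conj_pow]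
    exact fun e => hk2 (conj_eq_one_iff.1 e)

theorem phi_eq (i : Fin 3) (x : Mdl) :
    ∑ j ∈ Finset.range 9, ((phiC i).getD j 0 : ℂ) * bv j x = if cls x = wcl i then (csz i : ℂ) else 0 := by
  obtain ⟨h, hh⟩ := exists_conj_rep x
  have e := ev12_eq_int (phi_check i (cls x))
  rw [ev12_flatMap] at e
  simp only [ev12_scale] at e
  calc ∑ j ∈ Finset.range 9, ((phiC i).getD j 0 : ℂ) * bv j x
      = ∑ j ∈ Finset.range 9, ((phiC i).getD j 0 : ℂ) * bv j (rep (cls x)) :=
        Finset.sum_congr rfl fun j hj => by conv_lhs => rw [← hh, bv_class (Finset.mem_range.1 hj)]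
    _ = _ := e
    _ = _ := by split_ifs <;> simp

end CfsgLib.Nine
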