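import Cfsg.Agent.Lib.NineNormalizer.GramSearch
import Cfsg.Agent.Lib.NineNormalizer.Chars
import Mathlib.Tactic

/-!
Arithmetic of the coherence of the lattice of `3³:S₄`: the kernel-checked search leaves four coefficient
matrices, and the class multiplication coefficients force the index to be one.
-/

set_option autoImplicit false
set_option maxRecDepth 100000

namespace CfsgLib.Nine

/-- the candidates of the search, level by level -/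
def levels (i : ℕ) : List (List (List ℤ)) := ([
  [[]],
  [[[1], [1]]],
  [[[-1, 1], [1, 1]],
    [[1, 0], [1, 0], [0, 1], [0, 1]]],
  [[[-1, 1, 0], [1, 1, 0], [0, 0, 1], [1, 0, 1]],
    [[1, 0, 0], [1, 0, 0], [0, 1, 0], [0, 1, 0], [0, 0, 1], [1, 0, 1]]],
  [[[1, 0, 0, 0], [1, -1, 1, 0], [0, 1, 1, 0], [-1, 0, 0, 1], [0, 1, 0, 1]],
    [[-1, 1, 0, 0], [0, 1, 0, 0], [0, 0, 1, 0], [1, 0, 1, 0], [-1, 0, 0, 1], [0, 1, 0, 1]],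
    [[1, 0, 0, 0], [0, 1, 0, 0], [0, 1, 0, 0], [0, 0, 1, 0], [1, 0, 1, 0], [0, 0, 0, 1], [-1, 1, 0, 1]]],
  [[[1, 0, 0, 0, 0], [0, 1, 0, 0, 0], [0, 1, -1, 1, 0], [0, 0, 1, 1, 0], [-1, -1, 0, 0, 1], [1, 0, 1, 0, 1]],
    [[1, 0, 0, 0, 0], [0, -1, 1, 0, 0], [0, 0, 1, 0, 0], [0, 0, 0, 1, 0], [0, 1, 0, 1, 0], [-1, -1, 0, 0, 1], [1, 0, 1, 0, 1]],
    [[0, -1, 1, 0, 0], [1, 0, 1, 0, 0], [-1, 0, 0, 1, 0], [1, 1, 0, 1, 0], [0, -1, 0, 0, 1], [0, 0, 1, 0, 1]],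
    [[0, 1, 0, 0, 0], [0, 0, 1, 0, 0], [1, 0, 1, 0, 0], [-1, 0, 0, 1, 0], [1, 1, 0, 1, 0], [0, 0, 0, 0, 1], [0, -1, 1, 0, 1]],
    [[1, 0, 0, 0, 0], [1, 1, 0, 0, 0], [0, 0, 1, 0, 0], [1, 0, 1, 0, 0], [0, 0, 0, 1, 0], [0, 1, 0, 1, 0], [0, 0, 0, 0, 1], [0, -1, 1, 0, 1]]],
  [[[1, 0, 0, 0, 0, 0], [-1, 1, 0, 0, 0, 0], [0, 0, 1, 0, 0, 0], [0, 0, 1, -1, 1, 0], [0, 0, 0, 1, 1, 0], [-1, -1, -1, 0, 0, 1], [1, 1, 0, 1, 0, 1]],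
    [[1, 0, 0, 0, 0, 0], [-1, 1, 0, 0, 0, 0], [0, 0, -1, 1, 0, 0], [0, 0, 0, 1, 0, 0], [0, 0, 0, 0, 1, 0], [0, 0, 1, 0, 1, 0], [-1, -1, -1, 0, 0, 1], [1, 1, 0, 1, 0, 1]],
    [[1, 1, 0, 0, 0, 0], [0, 0, -1, 1, 0, 0], [1, 0, 0, 1, 0, 0], [-1, 0, 0, 0, 1, 0], [1, 0, 1, 0, 1, 0], [0, -1, -1, 0, 0, 1], [0, 1, 0, 1, 0, 1]],
    [[0, 0, 1, 0, 0, 0], [1, 0, 0, 1, 0, 0], [1, 1, 0, 1, 0, 0], [0, -1, 0, 0, 1, 0], [0, 1, 1, 0, 1, 0], [1, 0, 0, 0, 0, 1], [-1, 0, -1, 1, 0, 1]],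
    [[1, 0, 0, 0, 0, 0], [1, 0, 0, 0, 0, 0], [1, 0, 1, 0, 0, 0], [0, 0, 0, 1, 0, 0], [1, 1, 0, 1, 0, 0], [0, -1, 0, 0, 1, 0], [0, 1, 1, 0, 1, 0], [0, 0, 0, 0, 0, 1], [0, 0, -1, 1, 0, 1]],
    [[1, 0, 0, 0, 0, 0], [-1, 1, 0, 0, 0, 0], [1, 1, 1, 0, 0, 0], [0, 0, 0, 1, 0, 0], [1, 1, 0, 1, 0, 0], [0, 0, 0, 0, 1, 0], [0, 0, 1, 0, 1, 0], [0, 0, 0, 0, 0, 1], [0, 0, -1, 1, 0, 1]],
    [[1, 0, 0, 0, 0, 0], [0, 1, 0, 0, 0, 0], [0, 1, 1, 0, 0, 0], [0, 0, 0, 1, 0, 0], [1, 1, 0, 1, 0, 0], [-1, 0, 0, 0, 1, 0], [1, 0, 1, 0, 1, 0], [0, 0, 0, 0, 0, 1], [0, 0, -1, 1, 0, 1]],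
    [[0, 1, 0, 0, 0, 0], [0, 1, 1, 0, 0, 0], [1, 0, 0, 1, 0, 0], [1, 1, 0, 1, 0, 0], [0, 0, 0, 0, 1, 0], [0, 0, 1, 0, 1, 0], [1, 0, 0, 0, 0, 1], [-1, 0, -1, 1, 0, 1]],
    [[1, 0, 0, 0, 0, 0], [1, 0, 0, 0, 0, 0], [0, 1, 0, 0, 0, 0], [1, 1, 1, 0, 0, 0], [1, 0, 0, 1, 0, 0], [0, 1, 0, 1, 0, 0], [0, 0, 0, 0, 1, 0], [0, 0, 1, 0, 1, 0], [0, 0, 0, 0, 0, 1], [0, 0, -1, 1, 0, 1]],
    [[1, 1, 0, 0, 0, 0], [0, 1, 1, 0, 0, 0], [1, 0, 0, 1, 0, 0], [0, 1, 0, 1, 0, 0], [-1, 0, 0, 0, 1, 0], [1, 0, 1, 0, 1, 0], [0, 0, 0, 0, 0, 1], [0, 0, -1, 1, 0, 1]]],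
  [[[1, 0, 0, 0, 0, 0, 0], [1, 0, 0, 0, 0, 0, 0], [0, 0, 0, 1, 0, 0, 0], [0, 1, 0, 0, 1, 0, 0], [0, 1, 1, 0, 1, 0, 0], [0, 0, -1, 0, 0, 1, 0], [0, 0, 1, 1, 0, 1, 0], [0, 1, 0, 0, 0, 0, 1], [-1, -1, 0, -1, 1, 0, 1]],
    [[0, 1, 0, 0, 0, 0, 0], [0, 1, 0, 0, 0, 0, 0], [1, 1, 0, 1, 0, 0, 0], [-1, 0, 0, 0, 1, 0, 0], [0, 1, 1, 0, 1, 0, 0], [0, 0, -1, 0, 0, 1, 0], [0, 0, 1, 1, 0, 1, 0], [-1, 0, 0, 0, 0, 0, 1], [0, 0, 0, -1, 1, 0, 1]],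
    [[1, 0, 0, 0, 0, 0, 0], [0, 1, 0, 0, 0, 0, 0], [1, 1, 0, 0, 0, 0, 0], [0, 1, 0, 1, 0, 0, 0], [0, 0, 0, 0, 1, 0, 0], [0, 1, 1, 0, 1, 0, 0], [0, 0, -1, 0, 0, 1, 0], [0, 0, 1, 1, 0, 1, 0], [0, 0, 0, 0, 0, 0, 1], [-1, 0, 0, -1, 1, 0, 1]],
    [[1, 0, 0, 0, 0, 0, 0], [1, 1, 0, 0, 0, 0, 0], [0, -1, 1, 0, 0, 0, 0], [0, 1, 1, 1, 0, 0, 0], [0, 0, 0, 0, 1, 0, 0], [0, 1, 1, 0, 1, 0, 0], [0, 0, 0, 0, 0, 1, 0], [0, 0, 0, 1, 0, 1, 0], [0, 0, 0, 0, 0, 0, 1], [-1, 0, 0, -1, 1, 0, 1]],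
    [[1, 0, 0, 0, 0, 0, 0], [1, 1, 0, 0, 0, 0, 0], [0, 0, 1, 0, 0, 0, 0], [0, 0, 1, 1, 0, 0, 0], [0, 0, 0, 0, 1, 0, 0], [0, 1, 1, 0, 1, 0, 0], [0, -1, 0, 0, 0, 1, 0], [0, 1, 0, 1, 0, 1, 0], [0, 0, 0, 0, 0, 0, 1], [-1, 0, 0, -1, 1, 0, 1]],
    [[1, 0, 0, 0, 0, 0, 0], [1, 0, 0, 0, 0, 0, 0], [0, 0, 1, 0, 0, 0, 0], [0, 0, 1, 1, 0, 0, 0], [0, 1, 0, 0, 1, 0, 0], [0, 1, 1, 0, 1, 0, 0], [0, 0, 0, 0, 0, 1, 0], [0, 0, 0, 1, 0, 1, 0], [0, 1, 0, 0, 0, 0, 1], [-1, -1, 0, -1, 1, 0, 1]],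
    [[0, 1, 0, 0, 0, 0, 0], [0, 1, 0, 0, 0, 0, 0], [0, 0, 1, 0, 0, 0, 0], [1, 1, 1, 1, 0, 0, 0], [0, 1, 0, 0, 1, 0, 0], [-1, 0, 1, 0, 1, 0, 0], [0, 0, 0, 0, 0, 1, 0], [0, 0, 0, 1, 0, 1, 0], [-1, 0, 0, 0, 0, 0, 1], [0, 0, 0, -1, 1, 0, 1]],
    [[1, 0, 0, 0, 0, 0, 0], [0, 1, 0, 0, 0, 0, 0], [1, 1, 0, 0, 0, 0, 0], [0, 0, 1, 0, 0, 0, 0], [0, 1, 1, 1, 0, 0, 0], [0, 1, 0, 0, 1, 0, 0], [0, 0, 1, 0, 1, 0, 0], [0, 0, 0, 0, 0, 1, 0], [0, 0, 0, 1, 0, 1, 0], [0, 0, 0, 0, 0, 0, 1], [-1, 0, 0, -1, 1, 0, 1]]],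
  [[[1, 0, 0, 0, 0, 0, 0, 0], [0, 1, 0, 0, 0, 0, 0, 0], [0, 1, 0, 0, 0, 0, 0, 0], [1, 0, 0, 0, 1, 0, 0, 0], [-1, 0, 1, 0, 0, 1, 0, 0], [0, 0, 1, 1, 0, 1, 0, 0], [0, 0, 0, -1, 0, 0, 1, 0], [0, 0, 0, 1, 1, 0, 1, 0], [-1, 0, 1, 0, 0, 0, 0, 1], [0, -1, -1, 0, -1, 1, 0, 1]],
    [[1, 0, 0, 0, 0, 0, 0, 0], [-1, 0, 1, 0, 0, 0, 0, 0], [-1, 0, 1, 0, 0, 0, 0, 0], [0, 1, 1, 0, 1, 0, 0, 0], [0, -1, 0, 0, 0, 1, 0, 0], [0, 0, 1, 1, 0, 1, 0, 0], [0, 0, 0, -1, 0, 0, 1, 0], [0, 0, 0, 1, 1, 0, 1, 0], [0, -1, 0, 0, 0, 0, 0, 1], [-1, 0, 0, 0, -1, 1, 0, 1]],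
    [[1, 0, 0, 0, 0, 0, 0, 0], [0, 1, 0, 0, 0, 0, 0, 0], [-1, 0, 1, 0, 0, 0, 0, 0], [-1, 1, 1, 0, 0, 0, 0, 0], [0, 0, 1, 0, 1, 0, 0, 0], [0, 0, 0, 0, 0, 1, 0, 0], [0, 0, 1, 1, 0, 1, 0, 0], [0, 0, 0, -1, 0, 0, 1, 0], [0, 0, 0, 1, 1, 0, 1, 0], [0, 0, 0, 0, 0, 0, 0, 1], [-1, -1, 0, 0, -1, 1, 0, 1]],
    [[0, 1, 0, 0, 0, 0, 0, 0], [0, 1, 0, 0, 0, 0, 0, 0], [-1, 0, 0, 1, 0, 0, 0, 0], [1, 0, 0, 1, 1, 0, 0, 0], [-1, 0, 1, 0, 0, 1, 0, 0], [0, 0, 1, 1, 0, 1, 0, 0], [0, 0, 0, 0, 0, 0, 1, 0], [0, 0, 0, 0, 1, 0, 1, 0], [-1, 0, 1, 0, 0, 0, 0, 1], [0, -1, -1, 0, -1, 1, 0, 1]],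
    [[0, 1, 0, 0, 0, 0, 0, 0], [0, 1, 0, 0, 0, 0, 0, 0], [0, 0, 0, 1, 0, 0, 0, 0], [0, 0, 0, 1, 1, 0, 0, 0], [-1, 0, 1, 0, 0, 1, 0, 0], [0, 0, 1, 1, 0, 1, 0, 0], [-1, 0, 0, 0, 0, 0, 1, 0], [1, 0, 0, 0, 1, 0, 1, 0], [-1, 0, 1, 0, 0, 0, 0, 1], [0, -1, -1, 0, -1, 1, 0, 1]],
    [[1, 0, 0, 0, 0, 0, 0, 0], [0, 1, 0, 0, 0, 0, 0, 0], [0, 1, 0, 0, 0, 0, 0, 0], [0, 0, 0, 1, 0, 0, 0, 0], [1, 0, 0, 1, 1, 0, 0, 0], [0, 0, 1, 0, 0, 1, 0, 0], [-1, 0, 1, 1, 0, 1, 0, 0], [0, 0, 0, 0, 0, 0, 1, 0], [0, 0, 0, 0, 1, 0, 1, 0], [-1, 0, 1, 0, 0, 0, 0, 1], [0, -1, -1, 0, -1, 1, 0, 1]],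
    [[1, 0, 0, 0, 0, 0, 0, 0], [-1, 0, 1, 0, 0, 0, 0, 0], [-1, 0, 1, 0, 0, 0, 0, 0], [0, 0, 0, 1, 0, 0, 0, 0], [0, 1, 1, 1, 1, 0, 0, 0], [0, 0, 1, 0, 0, 1, 0, 0], [0, -1, 0, 1, 0, 1, 0, 0], [0, 0, 0, 0, 0, 0, 1, 0], [0, 0, 0, 0, 1, 0, 1, 0], [0, -1, 0, 0, 0, 0, 0, 1], [-1, 0, 0, 0, -1, 1, 0, 1]],
    [[1, 0, 0, 0, 0, 0, 0, 0], [0, 1, 0, 0, 0, 0, 0, 0], [-1, 0, 1, 0, 0, 0, 0, 0], [-1, 1, 1, 0, 0, 0, 0, 0], [0, 0, 0, 1, 0, 0, 0, 0], [0, 0, 1, 1, 1, 0, 0, 0], [0, 0, 1, 0, 0, 1, 0, 0], [0, 0, 0, 1, 0, 1, 0, 0], [0, 0, 0, 0, 0, 0, 1, 0], [0, 0, 0, 0, 1, 0, 1, 0], [0, 0, 0, 0, 0, 0, 0, 1], [-1, -1, 0, 0, -1, 1, 0, 1]]],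
  [[[1, 0, 0, 0, 0, 0, 0, 0, 0], [0, 0, 1, 0, 0, 0, 0, 0, 0], [1, 0, 1, 0, 0, 0, 0, 0, 0], [-1, 0, 0, 0, 1, 0, 0, 0, 0], [0, 0, 0, 0, 1, 1, 0, 0, 0], [0, -1, 0, 1, 0, 0, 1, 0, 0], [0, 0, 0, 1, 1, 0, 1, 0, 0], [0, -1, 0, 0, 0, 0, 0, 1, 0], [0, 1, 0, 0, 0, 1, 0, 1, 0], [0, -1, 0, 1, 0, 0, 0, 0, 1], [-1, 0, -1, -1, 0, -1, 1, 0, 1]],
    [[1, 0, 0, 0, 0, 0, 0, 0, 0], [0, 1, 0, 0, 0, 0, 0, 0, 0], [0, 0, 1, 0, 0, 0, 0, 0, 0], [1, 0, 1, 0, 0, 0, 0, 0, 0], [-1, 0, 0, 0, 1, 0, 0, 0, 0], [0, 1, 0, 0, 1, 1, 0, 0, 0], [0, 0, 0, 1, 0, 0, 1, 0, 0], [0, -1, 0, 1, 1, 0, 1, 0, 0], [0, 0, 0, 0, 0, 0, 0, 1, 0], [0, 0, 0, 0, 0, 1, 0, 1, 0], [0, -1, 0, 1, 0, 0, 0, 0, 1], [-1, 0, -1, -1, 0, -1, 1, 0, 1]],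
    [[0, 1, 0, 0, 0, 0, 0, 0, 0], [1, 0, 1, 0, 0, 0, 0, 0, 0], [1, -1, 0, 1, 0, 0, 0, 0, 0], [0, -1, 1, 1, 0, 0, 0, 0, 0], [-1, 0, 0, 0, 1, 0, 0, 0, 0], [0, 0, 0, 1, 1, 1, 0, 0, 0], [0, 0, 0, 1, 0, 0, 1, 0, 0], [0, 0, 0, 0, 1, 0, 1, 0, 0], [0, 0, 0, 0, 0, 0, 0, 1, 0], [0, 0, 0, 0, 0, 1, 0, 1, 0], [0, 0, 0, 0, 0, 0, 0, 0, 1], [-1, -1, -1, 0, 0, -1, 1, 0, 1]],
    [[1, 0, 0, 0, 0, 0, 0, 0, 0], [0, 1, 0, 0, 0, 0, 0, 0, 0], [0, 0, 1, 0, 0, 0, 0, 0, 0], [0, -1, 0, 1, 0, 0, 0, 0, 0], [1, -1, 1, 1, 0, 0, 0, 0, 0], [-1, 0, 0, 0, 1, 0, 0, 0, 0], [0, 0, 0, 1, 1, 1, 0, 0, 0], [0, 0, 0, 1, 0, 0, 1, 0, 0], [0, 0, 0, 0, 1, 0, 1, 0, 0], [0, 0, 0, 0, 0, 0, 0, 1, 0], [0, 0, 0, 0, 0, 1, 0, 1, 0], [0, 0, 0, 0, 0, 0, 0, 0, 1], [-1, -1, -1, 0, 0, -1, 1, 0, 1]]]] : List (List (List (List ℤ)))).getD i []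

/-- the Gram matrix without the trivial character -/
def gram' (i j : ℕ) : ℤ := gram i j - triv i * triv j

theorem levels_check : ∀ i : ℕ, i < 9 → GramSearch.check gram' i (levels i) (levels (i + 1)) = true := by
  decide +kernel

theorem gram'_le : ∀ i : ℕ, i < 9 → gram' i i ≤ 8 := by decide +kernel

/-- an entry of a column -/
def entry (c : List ℤ) (j : ℕ) : ℤ := c.getD (8 - j) 0

/-- the value at the `i`th class -/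
def fcol (i : Fin 3) (c : List ℤ) : ℤ := ((List.range 9).map fun j => (phiC i).getD j 0 * entry c j).sum

theorem entry_mk (f : ℕ → ℤ) {j : ℕ} (hj : j < 9) : entry (GramSearch.mk f 9) j = f j := by
  interval_cases j <;> rfl

theorem fcol_mk (i : Fin 3) (f : ℕ → ℤ) :
    fcol i (GramSearch.mk f 9) = ((List.range 9).map fun j => (phiC i).getD j 0 * f j).sum :=
  congrArg List.sum (List.map_congr_left fun j hj => by rw [entry_mk f (List.mem_range.1 hj)])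

/-- the right hand side of a class equation -/
def rhs (i j l : Fin 3) : ℚ := (pairCount i j l * csz i * csz j : ℕ) / 648

/-- what is known about the signed degrees -/
structure Facts (n : ℕ) (L : List (List ℤ)) (D : List ℤ) : Prop where
  len : D.length = L.length
  deg : ∀ j < 9, (((L.zip D).map fun p => entry p.1 j * p.2).sum + triv j = 0)
  mom : ∀ i j l : Fin 3, ¬ (i = j ∧ j = l) →
    (((L.zip D).map fun p => (fcol i p.1 * fcol j p.1 * fcol l p.1 : ℤ) / (p.2 : ℚ)).sum + 1 = rhs i j l / n)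
  ne : ∀ p ∈ L.zip D, p.2 ≠ 0
  cong : ∀ p ∈ L.zip D, (27 : ℤ) ∣ p.2 + (6 * fcol 0 p.1 + 12 * fcol 1 p.1 + 8 * fcol 2 p.1)
  size : (D.map fun d => d * d).sum ≤ 648 * n

theorem facts_of {ι : Type*} [Fintype ι] {a : ℕ → ι → ℤ} {n : ℕ} (dg : ι → ℕ) (hd : ∀ χ, 0 < dg χ)
    {L : List (List ℤ)} (hL : GramSearch.Described a 9 L)
    (hdeg : ∀ j < 9, ∑ χ, a j χ * dg χ + triv j = 0)
    (hmom : ∀ i j l : Fin 3, ¬ (i = j ∧ j = l) →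
      ∑ χ, (((List.range 9).map fun k => (phiC i).getD k 0 * a k χ).sum *
        ((List.range 9).map fun k => (phiC j).getD k 0 * a k χ).sum *
        ((List.range 9).map fun k => (phiC l).getD k 0 * a k χ).sum : ℤ) / (dg χ : ℚ) + 1 = rhs i j l / n)
    (hcong : ∀ χ, (27 : ℤ) ∣ dg χ + (6 * ((List.range 9).map fun k => (phiC 0).getD k 0 * a k χ).sum +
      12 * ((List.range 9).map fun k => (phiC 1).getD k 0 * a k χ).sum +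
      8 * ((List.range 9).map fun k => (phiC 2).getD k 0 * a k χ).sum))
    (hsize : ∑ χ, dg χ * dg χ ≤ 648 * n) : ∃ D, Facts n L D := by
  classical
  obtain ⟨l, hnd, rfl, hz⟩ := hL
  set s := GramSearch.sgn a with hs
  have hsc : ∀ χ, s χ = 1 ∨ s χ = -1 := GramSearch.sgn_cases a
  have he : ∀ χ, ∀ j < 9, entry (GramSearch.col a 9 χ) j = s χ * a j χ := fun χ j hj => entry_mk _ hj
  set F : Fin 3 → ι → ℤ := fun i χ => ((List.range 9).map fun k => (phiC i).getD k 0 * a k χ).sum with hF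
  have hf : ∀ χ i, fcol i (GramSearch.col a 9 χ) = s χ * F i χ := fun χ i => by
    rw [GramSearch.col, fcol_mk, hF, ← List.sum_map_mul_left]
    exact congrArg List.sum (List.map_congr_left fun j _ => by rw [← hs]; ring)
  have hout : ∀ χ, χ ∉ l → ∀ i, F i χ = 0 := fun χ hχ i => List.sum_eq_zero fun x hx => by
    obtain ⟨k, hk, rfl⟩ := List.mem_map.1 hx
    rw [hz χ hχ k (List.mem_range.1 hk), mul_zero]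
  have hsum : ∀ {R : Type} [AddCommMonoid R] (T : ι → R), (∀ χ, χ ∉ l → T χ = 0) → ∑ χ, T χ = (l.map T).sum :=
    fun {R} _ T hT => by
      rw [← List.sum_toFinset T hnd]
      exact (Finset.sum_subset (Finset.subset_univ _) fun χ _ hχ => hT χ (by simpa using hχ)).symm
  refine ⟨l.map fun χ => s χ * dg χ, ⟨by simp, fun j hj => ?_, fun i j k hne => ?_, fun p hp => ?_, fun p hp => ?_, ?_⟩⟩
  · rw [List.zip_map', List.map_map, ← hdeg j hj, hsum (fun χ => a j χ * dg χ) fun χ hχ => by rw [hz χ hχ j hj, zero_mul]]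
    congr 2
    refine List.map_congr_left fun χ _ => ?_
    simp only [Function.comp_apply, he χ j hj]
    rcases hsc χ with h | h <;> simp [h]
  · have h := hmom i j k hne
    rw [hsum (fun χ => (F i χ * F j χ * F k χ : ℤ) / (dg χ : ℚ)) fun χ hχ => by simp [hout χ hχ]] at h
    rw [List.zip_map', List.map_map, ← h]
    congr 2
    refine List.map_congr_left fun χ _ => ?_
    simp only [Function.comp_apply, hf]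
    rcases hsc χ with e | e <;> simp [e, neg_div_neg_eq]
  · rw [List.zip_map'] at hp
    obtain ⟨χ, -, rfl⟩ := List.mem_map.1 hp
    have := hd χ
    rcases hsc χ with e | e <;> simp [e] <;> omega
  · rw [List.zip_map'] at hp
    obtain ⟨χ, -, rfl⟩ := List.mem_map.1 hp
    simp only [hf]
    have h := dvd_mul_of_dvd_right (hcong χ) (s χ)
    rw [show s χ * (dg χ : ℤ) + (6 * (s χ * F 0 χ) + 12 * (s χ * F 1 χ) + 8 * (s χ * F 2 χ)) =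
      s χ * ((dg χ : ℤ) + (6 * F 0 χ + 12 * F 1 χ + 8 * F 2 χ)) by ring]
    exact h
  · rw [List.map_map]
    calc ((l.map ((fun d => d * d) ∘ fun χ => s χ * dg χ))).sum = (l.map fun χ => ((dg χ * dg χ : ℕ) : ℤ)).sum := by
          refine congrArg List.sum (List.map_congr_left fun χ _ => ?_)
          simp only [Function.comp_apply]
          rcases hsc χ with e | e <;> simp [e]
      _ = ((∑ χ ∈ l.toFinset, dg χ * dg χ : ℕ) : ℤ) := by rw [← List.sum_toFinset _ hnd, Nat.cast_sum]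
      _ ≤ _ := by
          exact_mod_cast le_trans (Finset.sum_le_sum_of_subset_of_nonneg (Finset.subset_univ _)
            fun _ _ _ => Nat.zero_le _) hsize

theorem counts : rhs 0 0 1 = 36 ∧ rhs 0 0 2 = 0 ∧ rhs 0 1 1 = 18 ∧ rhs 0 1 2 = 27 ∧ rhs 0 2 2 = 81 / 2 ∧
    rhs 1 1 2 = 27 ∧ rhs 1 2 2 = 81 / 4 := by
  have h : pairCount 0 0 1 = 2 ∧ pairCount 0 0 2 = 0 ∧ pairCount 0 1 1 = 2 ∧ pairCount 0 1 2 = 3 ∧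
      pairCount 0 2 2 = 3 ∧ pairCount 1 1 2 = 6 ∧ pairCount 1 2 2 = 3 := by decide +kernel
  have hc : csz 0 = 108 ∧ csz 1 = 54 ∧ csz 2 = 81 := ⟨rfl, rfl, rfl⟩
  simp only [rhs, h, hc]
  norm_num

set_option maxHeartbeats 1000000 in
theorem final_arith {n : ℕ} (hn : 0 < n) {p m z w : ℤ} (hp : p ≠ 0) (hm : m ≠ 0) (hz : z ≠ 0) (hw : w ≠ 0)
    (h1 : 6 * n * (p + m) = p * m) (h2 : 8 * n * (w + 2 * z) = 3 * z * w) (hlin : p + m = 2 * w + z)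
    (cp : (27 : ℤ) ∣ p - 12) (cm : (27 : ℤ) ∣ m - 12) (cz : (27 : ℤ) ∣ z - 8) (cw : (27 : ℤ) ∣ w - 8)
    (hsz : p * p + m * m ≤ 648 * n) (hsz' : z * z + 2 * (w * w) ≤ 648 * n) : n = 1 := by
  have hn' : (0 : ℤ) < n := by exact_mod_cast hn
  obtain ⟨a, ha⟩ : (27 : ℤ) ∣ p + m - 24 := by omega
  obtain ⟨b, hb⟩ : (27 : ℤ) ∣ w + 2 * z - 24 := by omega
  obtain ⟨P, hP⟩ : ∃ P, p + m = P := ⟨_, rfl⟩
  obtain ⟨Q, hQ⟩ : ∃ Q, w + 2 * z = Q := ⟨_, rfl⟩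
  rw [hP] at h1 ha
  rw [hQ] at h2 hb
  have k1 : 12 * (n : ℤ) * P ≤ 648 * n ∧ -(648 * (n : ℤ)) ≤ 12 * n * P := by
    constructor <;> nlinarith [mul_self_nonneg (p - m), mul_self_nonneg (p + m)]
  have k2 : 112 * (n : ℤ) * Q ≤ 9720 * n ∧ -(9720 * (n : ℤ)) ≤ 112 * n * Q := by
    constructor <;> nlinarith [mul_self_nonneg (5 * z - 7 * w), mul_self_nonneg (5 * z + 7 * w), mul_self_nonneg w]
  have b1 : -2 ≤ a ∧ a ≤ 1 := by constructor <;> nlinarith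
  have b2 : -4 ≤ b ∧ b ≤ 2 := by constructor <;> nlinarith
  obtain rfl : P = 24 + 27 * a := by omega
  obtain rfl : Q = 24 + 27 * b := by omega
  obtain ⟨a1, a2⟩ := b1
  obtain ⟨b3, b4⟩ := b2
  have e1 : 3 * w = 2 * (24 + 27 * a) - (24 + 27 * b) := by omega
  have e2 : 3 * z = 2 * (24 + 27 * b) - (24 + 27 * a) := by omega
  have e3 : 24 * (n : ℤ) * (24 + 27 * b) = (2 * (24 + 27 * a) - (24 + 27 * b)) * (2 * (24 + 27 * b) - (24 + 27 * a)) := by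
    rw [← e1, ← e2]; linear_combination 3 * h2
  have e4 : (p - m) * (p - m) = (24 + 27 * a) * (24 + 27 * a) - 24 * n * (24 + 27 * a) := by
    rw [← hP] at h1 ⊢
    linear_combination 4 * h1
  clear h1 h2 k1 k2 hsz hsz' e1 e2
  interval_cases a <;> interval_cases b <;> norm_num at e3 e4 <;> first | omega | skip
  all_goals
    have hn19 : (n : ℤ) = 19 := by omega
    rw [hn19] at e4
    generalize p - m = x at e4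
    rcases le_or_gt x (-121) with h | h
    · nlinarith
    · rcases le_or_gt 121 x with h' | h'
      · nlinarith
      · nlinarith [mul_nonneg (show 0 ≤ x + 120 by omega) (show 0 ≤ 120 - x by omega)]

set_option maxHeartbeats 1000000 in
theorem n_eq_one {ι : Type*} [Fintype ι] {a : ℕ → ι → ℤ} {n : ℕ} (hn : 0 < n) (dg : ι → ℕ) (hd : ∀ χ, 0 < dg χ)
    (hgram : ∀ i < 9, ∀ j ≤ i, ∑ χ, a i χ * a j χ = gram' i j)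
    (hdeg : ∀ j < 9, ∑ χ, a j χ * dg χ + triv j = 0)
    (hmom : ∀ i j l : Fin 3, ¬ (i = j ∧ j = l) →
      ∑ χ, (((List.range 9).map fun k => (phiC i).getD k 0 * a k χ).sum *
        ((List.range 9).map fun k => (phiC j).getD k 0 * a k χ).sum *
        ((List.range 9).map fun k => (phiC l).getD k 0 * a k χ).sum : ℤ) / (dg χ : ℚ) + 1 = rhs i j l / n)
    (hcong : ∀ χ, (27 : ℤ) ∣ dg χ + (6 * ((List.range 9).map fun k => (phiC 0).getD k 0 * a k χ).sum +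
      12 * ((List.range 9).map fun k => (phiC 1).getD k 0 * a k χ).sum +
      8 * ((List.range 9).map fun k => (phiC 2).getD k 0 * a k χ).sum))
    (hsize : ∑ χ, dg χ * dg χ ≤ 648 * n) : n = 1 := by
  obtain ⟨L, hL, hdes⟩ := GramSearch.search levels (List.mem_singleton.2 rfl) gram'_le hgram levels_check
  obtain ⟨D, hD⟩ := facts_of dg hd hdes hdeg hmom hcong hsize
  obtain ⟨hlen, hdg, hmo, hne, hco, hsz⟩ := hD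
  obtain ⟨c1, c2, c3, c4, c5, c6, c7⟩ := counts
  have g0 := hdg 0 (by norm_num)
  have g1 := hdg 1 (by norm_num)
  have g2 := hdg 2 (by norm_num)
  have g3 := hdg 3 (by norm_num)
  have g4 := hdg 4 (by norm_num)
  have g5 := hdg 5 (by norm_num)
  have g6 := hdg 6 (by norm_num)
  have g7 := hdg 7 (by norm_num)
  have g8 := hdg 8 (by norm_num)
  have m1 := hmo 0 0 1 (by decide)
  have m2 := hmo 0 0 2 (by decide)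
  have m3 := hmo 0 1 1 (by decide)
  have m4 := hmo 0 1 2 (by decide)
  have m5 := hmo 0 2 2 (by decide)
  have m6 := hmo 1 1 2 (by decide)
  have m7 := hmo 1 2 2 (by decide)
  rw [c1] at m1
  rw [c2] at m2
  rw [c3] at m3
  rw [c4] at m4
  rw [c5] at m5
  rw [c6] at m6
  rw [c7] at m7
  simp only [levels, List.getD_cons_succ, List.getD_cons_zero, List.mem_cons, List.not_mem_nil, or_false] at hL
  rcases hL with rfl | rfl | rfl | rfl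
  · match D, hlen with
    | [d1, d2, d3, d4, d5, d6, d7, d8, d9, d10, d11], _ =>
      norm_num [entry, triv, List.zip_cons_cons] at g0 g1 g2 g3 g4 g5 g6 g7 g8
      simp [List.zip_cons_cons] at hne
      omega
  · match D, hlen with
    | [d1, d2, d3, d4, d5, d6, d7, d8, d9, d10, d11, d12], _ =>
      norm_num [entry, triv, List.zip_cons_cons] at g0 g1 g2 g3 g4 g5 g6 g7 g8
      simp [List.zip_cons_cons] at hne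
      omega
  · match D, hlen with
    | [d1, d2, d3, d4, d5, d6, d7, d8, d9, d10, d11, d12], _ =>
      simp [fcol, entry, phiC, List.range_succ, List.zip_cons_cons, div_eq_mul_inv] at m1 m2 m3 m4 m5 m6 m7
      simp [List.zip_cons_cons] at hne
      have h0 := hne.2.1
      have : ((d2 : ℚ))⁻¹ = 0 := by
        linear_combination (-1 / 54 : ℚ) * m1 + (1 / 108 : ℚ) * m2 + (-1 / 54 : ℚ) * m3 + (1 / 18 : ℚ) * m4 +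
          (1 / 108 : ℚ) * m5 + (-1 / 54 : ℚ) * m6 + (-1 / 54 : ℚ) * m7
      exact absurd (Int.cast_eq_zero.1 (inv_eq_zero.1 this)) h0
  · match D, hlen with
    | [d1, d2, d3, d4, d5, d6, d7, d8, d9, d10, d11, d12, d13], _ =>
      norm_num [entry, triv, List.zip_cons_cons] at g0 g1 g2 g3 g4 g5 g6 g7 g8
      simp [fcol, entry, phiC, List.range_succ, List.zip_cons_cons, div_eq_mul_inv] at m1 m2 m3 m4 m5 m6 m7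
      simp [fcol, entry, phiC, List.range_succ, List.zip_cons_cons] at hne hco
      obtain ⟨n1, n2, n3, n4, n5, n6, n7, n8, n9, n10, n11, n12, n13⟩ := hne
      obtain ⟨o1, o2, o3, o4, o5, o6, o7, o8, o9, o10, o11, o12, o13⟩ := hco
      simp at hsz
      have hlin : d1 + d2 = 2 * d11 + d3 := by omega
      obtain rfl : d10 = -d11 := by omega
      clear g0 g1 g2 g3 g4 g5 g6 g7 g8
      have k1 : (d1 : ℚ)⁻¹ + (d2 : ℚ)⁻¹ = 1 / 6 * (n : ℚ)⁻¹ := by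
        linear_combination (1 / 81 : ℚ) * m4 + (1 / 81 : ℚ) * m6 + (-2 / 81 : ℚ) * m7
      have k2 : (d3 : ℚ)⁻¹ + 2 * (d11 : ℚ)⁻¹ = 3 / 8 * (n : ℚ)⁻¹ := by
        push_cast [inv_neg] at m4 m6 m7
        linear_combination (1 / 9 : ℚ) * m4 + (-1 / 18 : ℚ) * m6 + (-1 / 18 : ℚ) * m7
      have q1 : (d1 : ℚ) ≠ 0 := Int.cast_ne_zero.2 n1
      have q2 : (d2 : ℚ) ≠ 0 := Int.cast_ne_zero.2 n2
      have q3 : (d3 : ℚ) ≠ 0 := Int.cast_ne_zero.2 n3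
      have q11 : (d11 : ℚ) ≠ 0 := Int.cast_ne_zero.2 n11
      have qn : (n : ℚ) ≠ 0 := Nat.cast_ne_zero.2 hn.ne'
      have i1 : 6 * (n : ℤ) * (d1 + d2) = d1 * d2 := by
        field_simp at k1
        have : 6 * (n : ℚ) * (d1 + d2) = d1 * d2 := by linear_combination k1
        exact_mod_cast this
      have i2 : 8 * (n : ℤ) * (d11 + 2 * d3) = 3 * d3 * d11 := by
        field_simp at k2
        have : 8 * (n : ℚ) * (d11 + 2 * d3) = 3 * d3 * d11 := by linear_combination k2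
        exact_mod_cast this
      clear m1 m2 m3 m4 m5 m6 m7 k1 k2 hmo hdg
      have cp : (27 : ℤ) ∣ d1 - 12 := by clear * - o1; omega
      have cm : (27 : ℤ) ∣ d2 - 12 := by clear * - o2; omega
      have cz : (27 : ℤ) ∣ d3 - 8 := by clear * - o3; omega
      have cw : (27 : ℤ) ∣ d11 - 8 := by clear * - o11; omega
      refine final_arith hn n1 n2 n3 n11 i1 i2 hlin cp cm cz cw ?_ ?_ <;>
        linarith [mul_self_nonneg d1, mul_self_nonneg d2, mul_self_nonneg d3, mul_self_nonneg d4, mul_self_nonneg d5,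
          mul_self_nonneg d6, mul_self_nonneg d7, mul_self_nonneg d8, mul_self_nonneg d9, mul_self_nonneg d11,
          mul_self_nonneg d12, mul_self_nonneg d13]

end CfsgLib.Nine
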