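import Cfsg.Agent.Lib.NineNormalizer.Model
import Cfsg.Prelude.Def_TwoFusion
import Cfsg.Prelude.Def_Solvable
import Mathlib.GroupTheory.Sylow
import Mathlib.GroupTheory.Nilpotent
import Mathlib.GroupTheory.OrderOfElement
import Mathlib.Tactic.Group

/-!
Fusion in a group with a subgroup `3³:S₄` containing the centralisers of the strongly closed `3³`:
trivial intersection, Sylow subgroups and the factorisations of one translation by two conjugates.
-/

set_option autoImplicit false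
set_option maxRecDepth 100000

namespace CfsgLib.Nine

section Cube

variable {G : Type*} [Group G]

/-- The orbit of `a` under an element `x` of order three with `(x a)³ = (x² a)³ = 1`. -/
theorem orbit_facts {x a : G} (hx : x * x * x = 1) (hy : x * a * (x * a) * (x * a) = 1)
    (hz : x * x * a * (x * x * a) * (x * x * a) = 1) :
    Commute a (x * a * x⁻¹) ∧ Commute a (x * (x * a * x⁻¹) * x⁻¹) ∧
      Commute (x * a * x⁻¹) (x * (x * a * x⁻¹) * x⁻¹) ∧
      x * (x * (x * a * x⁻¹) * x⁻¹) * x⁻¹ = a ∧ x * a * x⁻¹ * (x * (x * a * x⁻¹) * x⁻¹) * a = 1 := by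
  set b := x * a * x⁻¹ with hb
  set c := x * b * x⁻¹ with hc
  have hx2 : x * x = x⁻¹ := eq_inv_of_mul_eq_one_left hx
  have hxc : x * c * x⁻¹ = a := by
    rw [hc, hb]
    calc x * (x * (x * a * x⁻¹) * x⁻¹) * x⁻¹ = (x * x * x) * a * (x * x * x)⁻¹ := by group
      _ = a := by rw [hx]; group
  have hbca : b * c * a = 1 := by
    rw [hb, hc, hb]
    calc x * a * x⁻¹ * (x * (x * a * x⁻¹) * x⁻¹) * a
        = x * a * (x * a) * (x * x * x)⁻¹ * (x * a) := by group
      _ = 1 := by rw [hx, inv_one, mul_one, hy]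
  have hcba : c * b * a = 1 := by
    rw [hb, hc, hb]
    calc x * (x * a * x⁻¹) * x⁻¹ * (x * a * x⁻¹) * a = x * x * a * x⁻¹ * a * x⁻¹ * a := by group
      _ = x * x * a * (x * x) * a * (x * x) * a := by rw [hx2]
      _ = x * x * a * (x * x * a) * (x * x * a) := by group
      _ = 1 := hz
  have hbc : Commute b c := mul_right_cancel (hbca.trans hcba.symm)
  have haeq : a = (b * c)⁻¹ := eq_inv_of_mul_eq_one_right hbca
  have hab : Commute a b := by rw [haeq]; exact (Commute.mul_left (Commute.refl b) hbc.symm).inv_left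
  have hac : Commute a c := by rw [haeq]; exact (Commute.mul_left hbc (Commute.refl c)).inv_left
  exact ⟨hab, hac, hbc, hxc, hbca⟩

/-- If moreover `a` has a cube root in `⟨a⟩` then `x` is conjugate to `x a`. -/
theorem conj_of_cube_root {x a : G} (hx : x * x * x = 1) (hy : x * a * (x * a) * (x * a) = 1)
    (hz : x * x * a * (x * x * a) * (x * x * a) = 1) {k : ℕ} (hk : a ^ (3 * k) = a) : IsConj x (x * a) := by
  obtain ⟨hab, hac, hbc, hxc, hbca⟩ := orbit_facts hx hy hz
  set b := x * a * x⁻¹ with hb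
  set c := x * b * x⁻¹ with hc
  have hinv : ∀ p : G, x⁻¹ * (x * p * x⁻¹) * x = p := fun p => by group
  have e1 : x⁻¹ * (c * b ^ 2) ^ k * x = (b * a ^ 2) ^ k := by
    have : ∀ p : G, x⁻¹ * p * x = MulAut.conj x⁻¹ p := fun p => by simp [MulAut.conj_apply]
    rw [this, map_pow, map_mul, map_pow, ← this, ← this, hc, hinv, hb, hinv]
  have h2 : Commute (b * a ^ 2) ((c * b ^ 2)⁻¹) :=
    ((hbc.mul_right ((Commute.refl b).pow_right 2)).mul_left ((hac.mul_right (hab.pow_right 2)).pow_left 2)).inv_right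
  have e2 : (b * a ^ 2) * (c * b ^ 2)⁻¹ = a ^ 3 := by
    have ha : (b * c)⁻¹ = a := inv_eq_of_mul_eq_one_right hbca
    have h3 : Commute b (a ^ 2) := (hab.pow_left 2).symm
    have h4 : Commute (b ^ 2) c := hbc.pow_left 2
    calc (b * a ^ 2) * (c * b ^ 2)⁻¹ = a ^ 2 * b * (b ^ 2 * c)⁻¹ := by rw [h3.eq, h4.eq]
      _ = a ^ 2 * (b * c⁻¹ * (b⁻¹ * b⁻¹)) := by group
      _ = a ^ 2 * (c⁻¹ * b * (b⁻¹ * b⁻¹)) := by rw [hbc.inv_right.eq]
      _ = a ^ 2 * (b * c)⁻¹ := by group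
      _ = a ^ 3 := by rw [ha, pow_succ a 2]
  have key : (b * a ^ 2) ^ k * ((c * b ^ 2) ^ k)⁻¹ = a := by
    rw [← inv_pow, ← h2.mul_pow, e2, ← pow_mul, hk]
  refine isConj_iff.2 ⟨(c * b ^ 2) ^ k, ?_⟩
  conv_rhs => rw [← key, ← e1]
  group

end Cube

section Main

variable {G : Type*} [Group G] (H : Subgroup G) (e : ↥H ≃* Mdl)

/-- the model inside the group -/
def emb : Mdl →* G := H.subtype.comp e.symm.toMonoidHom

theorem emb_mem (m : Mdl) : emb H e m ∈ H := (e.symm m).2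

theorem exists_emb {g : G} (hg : g ∈ H) : ∃ m, emb H e m = g :=
  ⟨e ⟨g, hg⟩, congrArg Subtype.val (e.symm_apply_apply ⟨g, hg⟩)⟩

theorem emb_injective : Function.Injective (emb H e) := fun _ _ h =>
  e.symm.injective (Subtype.ext h)

theorem pow81 : ∀ x : Mdl, x ^ 81 = 1 → x ^ 9 = 1 := by decide +kernel

theorem cls_conj_wt3 : ∀ i : Fin 3, ∀ h : Mdl, cls (h * wt3 i * h⁻¹) = wcl i := by decide +kernel

theorem pow81_of_pow {x : Mdl} {k : ℕ} (h : x ^ 3 ^ k = 1) : x ^ 81 = 1 := by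
  have a := orderOf_dvd_of_pow_eq_one h
  have b := orderOf_dvd_card (x := x)
  rw [card_mdl] at b
  obtain ⟨j, -, hj⟩ := (Nat.dvd_prime_pow Nat.prime_three).1 a
  rw [hj] at b
  have hj4 : j ≤ 4 := by
    by_contra hj5
    have := (pow_dvd_pow 3 (show 5 ≤ j by omega)).trans b
    norm_num at this
  refine orderOf_dvd_iff_pow_eq_one.1 ?_
  rw [hj]
  exact pow_dvd_pow 3 hj4

variable (J : Subgroup G) (hJ : J = (Cfsg.pCore 3 ↥H).map H.subtype)

include e hJ in
theorem mem_J_iff {g : G} : g ∈ J ↔ ∃ m, IsTr m ∧ emb H e m = g := by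
  have hcore : Cfsg.pCore 3 ↥H = trans.comap e.toMonoidHom := by
    apply le_antisymm
    · refine sSup_le fun N hN x hx => ?_
      obtain ⟨hNn, hNp⟩ := hN
      have h9 : ∀ y ∈ N, (e y) ^ 9 = 1 := by
        intro y hy
        obtain ⟨k, hk⟩ := hNp ⟨y, hy⟩
        exact pow81 _ (pow81_of_pow (k := k) (by
          rw [← map_pow, show y ^ 3 ^ k = 1 from congrArg Subtype.val hk, map_one]))
      by_contra hm
      refine not_tr_witness (e x) (h9 x hx) hm ?_
      have h := h9 _ (N.mul_mem (hNn.conj_mem x hx (e.symm vf)) (N.inv_mem hx))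
      simpa using h
    · refine le_sSup ⟨trans_normal.comap _, fun ⟨x, hx⟩ => ⟨1, Subtype.ext (e.injective ?_)⟩⟩
      show e (x ^ 3 ^ 1) = e 1
      rw [map_pow, map_one, pow_one, pow_succ, pow_two]
      exact (tr_facts.2.1 _ hx).1
  rw [hJ, hcore]
  constructor
  · rintro ⟨x, hx, rfl⟩
    exact ⟨e x, hx, congrArg Subtype.val (e.symm_apply_apply x)⟩
  · rintro ⟨m, hm, rfl⟩
    refine ⟨e.symm m, ?_, rfl⟩
    show IsTr (e (e.symm m))
    rwa [e.apply_symm_apply]

include e hJ in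
theorem J_le : J ≤ H := fun g hg => by
  obtain ⟨m, -, rfl⟩ := (mem_J_iff H e J hJ).1 hg
  exact emb_mem H e m

/-- the representatives in `G` -/
def wG (i : Fin 3) : G := emb H e (wt3 i)

include hJ in
theorem wG_mem (i : Fin 3) : wG H e i ∈ J := (mem_J_iff H e J hJ).2 ⟨_, (wt3_facts i).1, rfl⟩

theorem wG_ne (i : Fin 3) : wG H e i ≠ 1 := fun h => (wt3_facts i).2.1 (emb_injective H e (h.trans (map_one _).symm))

theorem wG_cube (i : Fin 3) : wG H e i * wG H e i * wG H e i = 1 := by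
  rw [wG, ← map_mul, ← map_mul, (tr_facts.2.1 _ (wt3_facts i).1).1, map_one]

theorem isConj_wG_inv (i : Fin 3) : IsConj (wG H e i) (wG H e i)⁻¹ := by
  obtain ⟨h, hh⟩ := exists_conj_rep (wt3 i)⁻¹
  rw [(wt3_facts i).2.2.2] at hh
  exact isConj_iff.2 ⟨emb H e h, by rw [wG, ← map_inv, ← map_mul, ← map_inv, ← map_mul]; exact congrArg _ hh⟩

include hJ in
theorem isConj_wG {j : G} (hj : j ∈ J) (h1 : j ≠ 1) :
    ∃ i : Fin 3, ∃ h : Mdl, emb H e h * wG H e i * (emb H e h)⁻¹ = j := by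
  obtain ⟨m, hm, rfl⟩ := (mem_J_iff H e J hJ).1 hj
  obtain ⟨i, hi⟩ := cls_tr m hm fun e' => h1 (by rw [e', map_one])
  obtain ⟨h, hh⟩ := exists_conj_rep m
  rw [hi] at hh
  exact ⟨i, h, by rw [wG, ← map_inv, ← map_mul, ← map_mul]; exact congrArg _ hh⟩

variable (hC : ∀ j ∈ J, j ≠ 1 → Subgroup.centralizer ({j} : Set G) ≤ H) (hsc : Cfsg.IsStronglyClosed J H)

include hJ hC in
theorem centralizer_le (i : Fin 3) : Subgroup.centralizer ({wG H e i} : Set G) ≤ H :=
  hC _ (wG_mem H e J hJ i) (wG_ne H e i)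

include hJ hC in
theorem card_centralizer_wG (i : Fin 3) :
    Nat.card (Subgroup.centralizer ({wG H e i} : Set G)) = csz i := by
  rw [← card_centralizer i, ← Fintype.card_subtype, ← Nat.card_eq_fintype_card]
  refine (Nat.card_congr (Equiv.ofBijective (fun g : {g : Mdl // g * wt3 i * g⁻¹ = wt3 i} =>
    (⟨emb H e g, Subgroup.mem_centralizer_singleton_iff.2 ?_⟩ : Subgroup.centralizer ({wG H e i} : Set G)))
    ⟨fun p q h => Subtype.ext (emb_injective H e (congrArg (fun z : Subgroup.centralizer ({wG H e i} : Set G) => (z : G)) h)), fun g => ?_⟩)).symm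
  · rw [wG, ← map_mul, ← map_mul]
    exact congrArg _ (mul_inv_eq_iff_eq_mul.1 g.2)
  · obtain ⟨m, hm⟩ := exists_emb H e (centralizer_le H e J hJ hC i g.2)
    refine ⟨⟨m, mul_inv_eq_iff_eq_mul.2 (emb_injective H e ?_)⟩, Subtype.ext hm⟩
    rw [map_mul, map_mul, hm]
    exact Subgroup.mem_centralizer_singleton_iff.1 g.2

include hJ hC in
theorem wG_fusion [Finite G] {g : G} {i t : Fin 3} (h : g * wG H e i * g⁻¹ = wG H e t) : i = t ∧ g ∈ H := by
  have hit : i = t := by
    refine csz_inj _ _ ?_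
    rw [← card_centralizer_wG H e J hJ hC i, ← card_centralizer_wG H e J hJ hC t]
    refine Nat.card_congr (Equiv.subtypeEquiv (MulAut.conj g).toEquiv fun x => ?_)
    simp only [Subgroup.mem_centralizer_singleton_iff, MulEquiv.toEquiv_eq_coe, EquivLike.coe_coe,
      MulAut.conj_apply, ← h]
    constructor
    · intro hc
      calc g * x * g⁻¹ * (g * wG H e i * g⁻¹) = g * (x * wG H e i) * g⁻¹ := by group
        _ = g * (wG H e i * x) * g⁻¹ := by rw [hc]
        _ = _ := by group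
    · intro hc
      calc x * wG H e i = g⁻¹ * (g * x * g⁻¹ * (g * wG H e i * g⁻¹)) * g := by group
        _ = g⁻¹ * (g * wG H e i * g⁻¹ * (g * x * g⁻¹)) * g := by rw [hc]
        _ = _ := by group
  subst hit
  exact ⟨rfl, centralizer_le H e J hJ hC i (Subgroup.mem_centralizer_singleton_iff.2 (mul_inv_eq_iff_eq_mul.1 h))⟩

include e hJ hC hsc in
theorem ti [Finite G] {g j : G} (hj : j ∈ J) (h1 : j ≠ 1) (hg : g * j * g⁻¹ ∈ H) : g ∈ H := by
  obtain ⟨i, h, hh⟩ := isConj_wG H e J hJ hj h1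
  obtain ⟨t, h', hh'⟩ := isConj_wG H e J hJ (hsc.2 j hj g hg) fun e' => h1 (conj_eq_one_iff.1 e')
  have h2 := (wG_fusion H e J hJ hC (g := (emb H e h')⁻¹ * g * emb H e h) (i := i) (t := t) ?_).2
  · have := mul_mem (mul_mem (emb_mem H e h') h2) (inv_mem (emb_mem H e h))
    simpa [mul_assoc] using this
  · calc _ = (emb H e h')⁻¹ * (g * (emb H e h * wG H e i * (emb H e h)⁻¹) * g⁻¹) * emb H e h' := by group
      _ = (emb H e h')⁻¹ * (emb H e h' * wG H e t * (emb H e h')⁻¹) * emb H e h' := by rw [hh, ← hh']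
      _ = wG H e t := by group

include e hJ hC hsc in
/-- every 3-subgroup is conjugate into `H` -/
theorem exists_conj_le [Finite G] {Q : Subgroup G} (hQ : IsPGroup 3 Q) : ∃ g : G, ∀ q ∈ Q, g⁻¹ * q * g ∈ H := by
  haveI := Fact.mk Nat.prime_three
  haveI : Finite H := inferInstance
  obtain ⟨S⟩ : Nonempty (Sylow 3 H) := inferInstance
  obtain ⟨P, hP⟩ : ∃ P : Sylow 3 G, (S : Subgroup H).map H.subtype ≤ P :=
    (S.2.map H.subtype).exists_le_sylow
  have hPH : (P : Subgroup G) ≤ H := by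
    set P0 := (P : Subgroup G).comap H.subtype with hP0
    have hP0p : IsPGroup 3 P0 := P.2.comap_of_injective _ Subtype.val_injective
    have hS : P0 = (S : Subgroup H) := S.3 hP0p (Subgroup.map_le_iff_le_comap.1 hP)
    have hJP : ∀ j ∈ J, j ∈ (P : Subgroup G) := by
      intro j hj
      have hn : (trans.comap e.toMonoidHom).Normal := trans_normal.comap _
      have hp : IsPGroup 3 (trans.comap e.toMonoidHom) := fun ⟨x, hx⟩ => ⟨1, Subtype.ext (e.injective (by
        show e (x ^ 3 ^ 1) = e 1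
        rw [map_pow, map_one, pow_one, pow_succ, pow_two]
        exact (tr_facts.2.1 _ hx).1))⟩
      have hsup : (S : Subgroup H) ⊔ trans.comap e.toMonoidHom = S :=
        S.3 (S.2.to_sup_of_normal_right hp) le_sup_left
      obtain ⟨m, hm, rfl⟩ := (mem_J_iff H e J hJ).1 hj
      have : e.symm m ∈ (S : Subgroup H) := hsup ▸ Subgroup.mem_sup_right (by
        show IsTr (e (e.symm m))
        rwa [e.apply_symm_apply])
      exact hP ⟨_, this, rfl⟩
    by_contra hne
    have hlt : ((P : Subgroup G) ⊓ H).subgroupOf P < ⊤ := lt_top_iff_ne_top.2 fun e' =>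
      hne ((Subgroup.subgroupOf_eq_top.1 e').trans inf_le_right)
    haveI : Group.IsNilpotent (P : Subgroup G) := P.2.isNilpotent
    obtain ⟨x, hxn, hxP⟩ := SetLike.exists_of_lt (normalizerCondition_of_isNilpotent _ hlt)
    refine hxP ⟨x.2, ?_⟩
    have hw := wG_mem H e J hJ 0
    refine ti H e J hJ hC hsc hw (wG_ne H e 0) ?_
    exact ((Subgroup.mem_normalizer_iff.1 hxn ⟨_, hJP _ hw⟩).1 ⟨hJP _ hw, J_le H e J hJ hw⟩).2
  obtain ⟨R, hR⟩ := hQ.exists_le_sylow
  obtain ⟨g, rfl⟩ := MulAction.exists_smul_eq G P R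
  refine ⟨g, fun q hq => hPH ?_⟩
  have := hR hq
  rw [Sylow.coe_subgroup_smul, Subgroup.mem_pointwise_smul_iff_inv_smul_mem] at this
  simpa [MulAut.smul_def, MulAut.inv_def] using this

include e hJ hC hsc in
theorem triangle [Finite G] {x y : G} {i j l : Fin 3} (hne : ¬ (i = j ∧ j = l)) (hxc : IsConj (wG H e i) x)
    (hyc : IsConj (wG H e j) y) (hz : x * y = wG H e l) : x ∈ J ∧ y ∈ J := by
  have cube : ∀ {k : Fin 3} {p : G}, IsConj (wG H e k) p → p * p * p = 1 := by
    intro k p hp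
    obtain ⟨g, rfl⟩ := isConj_iff.1 hp
    calc _ = g * (wG H e k * wG H e k * wG H e k) * g⁻¹ := by group
      _ = 1 := by rw [wG_cube]; group
  have inJ : ∀ {g p : G} {k : Fin 3}, IsConj (wG H e k) p → g⁻¹ * p * g ∈ H → g⁻¹ * p * g ∈ J := by
    intro g p k hp hm
    obtain ⟨c, rfl⟩ := isConj_iff.1 hp
    have e1 : g⁻¹ * (c * wG H e k * c⁻¹) * g = (g⁻¹ * c) * wG H e k * (g⁻¹ * c)⁻¹ := by group
    rw [e1] at hm ⊢
    exact hsc.2 _ (wG_mem H e J hJ k) _ hm
  have hx := cube hxc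
  have hy := cube hyc
  set a := x⁻¹ * y with ha
  have hxa : x * a = y := by rw [ha, mul_inv_cancel_left]
  have hxxa : x * x * a = wG H e l := by rw [mul_assoc, hxa, hz]
  obtain ⟨hab, hac, hbc, hxc', hbca⟩ :=
    orbit_facts hx (a := a) (by rw [hxa]; exact hy) (by rw [hxxa]; exact wG_cube H e l)
  set b := x * a * x⁻¹ with hb
  set c := x * b * x⁻¹ with hc
  have hcl : ∀ u ∈ ({a, b, c} : Set G), ∀ v ∈ ({a, b, c} : Set G), u * v = v * u := by
    rintro u (rfl | rfl | rfl) v (rfl | rfl | rfl)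
    exacts [rfl, hab.eq, hac.eq, hab.eq.symm, rfl, hbc.eq, hac.eq.symm, hbc.eq.symm, rfl]
  set A := Subgroup.closure ({a, b, c} : Set G) with hA
  have hcomm : ∀ u ∈ A, ∀ v ∈ A, u * v = v * u := fun u hu v hv => congrArg Subtype.val
    ((Subgroup.isMulCommutative_closure hcl).is_comm.comm (⟨u, hu⟩ : A) ⟨v, hv⟩)
  have haA : a ∈ A := Subgroup.subset_closure (Or.inl rfl)
  have hbA : b ∈ A := Subgroup.subset_closure (Or.inr (Or.inl rfl))
  have hcA : c ∈ A := Subgroup.subset_closure (Or.inr (Or.inr rfl))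
  have hxA : ∀ u ∈ A, x * u * x⁻¹ ∈ A := by
    intro u hu
    have : A ≤ A.comap (MulAut.conj x).toMonoidHom := by
      refine (Subgroup.closure_le _).2 ?_
      rintro v (rfl | rfl | rfl)
      · exact hbA
      · exact hcA
      · show x * c * x⁻¹ ∈ A
        rw [hxc']; exact haA
    exact this hu
  -- the primary decomposition of `a`
  obtain ⟨v, m, hm, hord⟩ := Nat.exists_eq_pow_mul_and_not_dvd (orderOf_pos a).ne' 3 (by norm_num)
  have hcop : Nat.Coprime (3 ^ v) m := Nat.Coprime.pow_left v ((Nat.Prime.coprime_iff_not_dvd Nat.prime_three).2 hm)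
  obtain ⟨s, hs0, hs1⟩ := Nat.chineseRemainder hcop 0 1
  set u := a ^ s with hu
  set t := a * u⁻¹ with ht
  have hum : u ^ m = 1 := by
    rw [hu, ← pow_mul]
    refine orderOf_dvd_iff_pow_eq_one.1 ?_
    rw [hord]
    exact Nat.mul_dvd_mul (Nat.modEq_zero_iff_dvd.1 hs0) dvd_rfl
  have htv : t ^ 3 ^ v = 1 := by
    have e1 : u ^ 3 ^ v = a ^ 3 ^ v := by
      rw [hu, ← pow_mul, pow_eq_pow_iff_modEq, hord, mul_comm s]
      simpa using hs1.mul_left' (3 ^ v)
    rw [ht, ((Commute.refl a).pow_right s).inv_right.mul_pow, inv_pow, e1, mul_inv_cancel]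
  have htA : t ∈ A := mul_mem haA (inv_mem (pow_mem haA s))
  have hu3 : u ^ 3 = 1 → u = 1 := fun h3 =>
    orderOf_eq_one_iff.1 (Nat.eq_one_of_dvd_coprimes ((Nat.Prime.coprime_iff_not_dvd Nat.prime_three).2 hm)
      (orderOf_dvd_of_pow_eq_one h3) (orderOf_dvd_of_pow_eq_one hum))
  obtain ⟨k, hk⟩ : ∃ k, u ^ (3 * k) = u := by
    have : Nat.Coprime 3 (orderOf u) :=
      Nat.Coprime.coprime_dvd_right (orderOf_dvd_of_pow_eq_one hum) ((Nat.Prime.coprime_iff_not_dvd Nat.prime_three).2 hm)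
    obtain ⟨k, hk⟩ := exists_pow_eq_self_of_coprime this
    exact ⟨k, by rw [pow_mul]; exact hk⟩
  -- the 3-part of `A`
  let A3 : Subgroup G :=
    { carrier := {q | q ∈ A ∧ q ^ 3 ^ v = 1}
      one_mem' := ⟨one_mem A, one_pow _⟩
      mul_mem' := fun {p q} hp hq => ⟨mul_mem hp.1 hq.1, by
        rw [Commute.mul_pow (hcomm p hp.1 q hq.1), hp.2, hq.2, one_mul]⟩
      inv_mem' := fun {p} hp => ⟨inv_mem hp.1, by rw [inv_pow, hp.2, inv_one]⟩ }
  have hA3n : ∀ q ∈ A3, x * q * x⁻¹ ∈ A3 := fun q hq => ⟨hxA q hq.1, by rw [conj_pow, hq.2]; group⟩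
  have hQ : IsPGroup 3 (Subgroup.zpowers x ⊔ A3 : Subgroup G) := by
    refine IsPGroup.to_sup_of_normal_right' ?_ (fun q => ⟨v, Subtype.ext q.2.2⟩) ?_
    · intro ⟨q, hq⟩
      obtain ⟨n, rfl⟩ := Subgroup.mem_zpowers_iff.1 hq
      refine ⟨1, Subtype.ext ?_⟩
      show (x ^ n) ^ 3 ^ 1 = 1
      rw [pow_one, ← zpow_natCast, ← zpow_mul, mul_comm, zpow_mul, zpow_natCast, pow_succ, pow_two, hx, one_zpow]
    · refine Subgroup.zpowers_le.2 (Subgroup.mem_normalizer_iff.2 fun q => ⟨hA3n q, fun hq => ?_⟩)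
      have := hA3n _ (hA3n _ hq)
      rwa [show x * (x * (x * q * x⁻¹) * x⁻¹) * x⁻¹ = (x * x * x) * q * (x * x * x)⁻¹ by group, hx, inv_one,
        one_mul, mul_one] at this
  obtain ⟨g, hg⟩ := exists_conj_le H e J hJ hC hsc hQ
  have hxJ : g⁻¹ * x * g ∈ J := inJ hxc (hg x (Subgroup.mem_sup_left (Subgroup.mem_zpowers x)))
  have hgA3 : ∀ q ∈ A3, g⁻¹ * q * g ∈ H := fun q hq => hg q (Subgroup.mem_sup_right hq)
  by_cases hu1 : u = 1
  · have haA3 : a ∈ A3 := ⟨haA, by rw [show a = t by rw [ht, hu1, inv_one, mul_one]]; exact htv⟩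
    have hxH := J_le H e J hJ hxJ
    have hyH : g⁻¹ * y * g ∈ H := by
      rw [← hxa, show g⁻¹ * (x * a) * g = (g⁻¹ * x * g) * (g⁻¹ * a * g) by group]
      exact mul_mem hxH (hgA3 a haA3)
    have hzH : g⁻¹ * wG H e l * g ∈ H := by
      rw [← hz, show g⁻¹ * (x * y) * g = (g⁻¹ * x * g) * (g⁻¹ * y * g) by group]
      exact mul_mem hxH hyH
    have hgH : g⁻¹ ∈ H := ti H e J hJ hC hsc (wG_mem H e J hJ l) (wG_ne H e l) (by simpa using hzH)
    have back : ∀ p : G, g⁻¹ * p * g ∈ J → p ∈ J := by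
      intro p hp
      have h1 := hsc.2 _ hp g (mul_mem (mul_mem (by simpa using inv_mem hgH) (J_le H e J hJ hp)) hgH)
      simpa [mul_assoc] using h1
    exact ⟨back x hxJ, back y (inJ hyc hyH)⟩
  · have hcut : ∀ q ∈ A3, g⁻¹ * q * g ∈ J → q = 1 := by
      intro q hq hqJ
      by_contra hq1
      have haH : g⁻¹ * a * g ∈ H := hC _ hqJ (fun e' => hq1 (by
          have : g⁻¹ * q * g⁻¹⁻¹ = 1 := by simpa using e'
          exact conj_eq_one_iff.1 this)) (by
        rw [Subgroup.mem_centralizer_singleton_iff]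
        calc g⁻¹ * a * g * (g⁻¹ * q * g) = g⁻¹ * (a * q) * g := by group
          _ = g⁻¹ * (q * a) * g := by rw [hcomm a haA q hq.1]
          _ = _ := by group)
      have hyJ : g⁻¹ * y * g ∈ J := inJ hyc (by
        rw [← hxa, show g⁻¹ * (x * a) * g = (g⁻¹ * x * g) * (g⁻¹ * a * g) by group]
        exact mul_mem (J_le H e J hJ hxJ) haH)
      obtain ⟨n, hn, hn'⟩ := (mem_J_iff H e J hJ).1 (show g⁻¹ * a * g ∈ J by
        rw [ha, show g⁻¹ * (x⁻¹ * y) * g = (g⁻¹ * x * g)⁻¹ * (g⁻¹ * y * g) by group]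
        exact mul_mem (inv_mem hxJ) hyJ)
      have hcube := congrArg (emb H e) (tr_facts.2.1 n hn).1
      rw [map_mul, map_mul, map_one, hn'] at hcube
      have ha3 : a ^ 3 = 1 := by
        calc a ^ 3 = a * a * a := pow_three' a
          _ = g * (g⁻¹ * a * g * (g⁻¹ * a * g) * (g⁻¹ * a * g)) * g⁻¹ := by group
          _ = 1 := by rw [hcube]; group
      exact hu1 (hu3 (by rw [hu, ← pow_mul, mul_comm, pow_mul, ha3, one_pow]))
    have hxcomm : ∀ q ∈ A3, x * q * x⁻¹ = q := by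
      intro q hq
      refine mul_inv_eq_one.1 (hcut _ (A3.mul_mem (hA3n q hq) (A3.inv_mem hq)) ?_)
      have hq' := hgA3 q hq
      have h1 := hsc.2 _ (inv_mem hxJ) (g⁻¹ * q * g) (mul_mem (mul_mem hq' (inv_mem (J_le H e J hJ hxJ))) (inv_mem hq'))
      rw [show g⁻¹ * (x * q * x⁻¹ * q⁻¹) * g =
        (g⁻¹ * x * g) * ((g⁻¹ * q * g) * (g⁻¹ * x * g)⁻¹ * (g⁻¹ * q * g)⁻¹) by group]
      exact mul_mem hxJ h1
    have hta : t ∈ A3 := ⟨htA, htv⟩
    by_cases ht1 : t = 1
    · refine absurd ?_ hne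
      have hau : a = u := mul_inv_eq_one.1 ht1
      have hk' : a ^ (3 * k) = a := by rw [hau]; exact hk
      have c1 := conj_of_cube_root hx (a := a) (by rw [hxa]; exact hy) (by rw [hxxa]; exact wG_cube H e l) hk'
      rw [hxa] at c1
      have hy2 : y * y = y⁻¹ := eq_inv_of_mul_eq_one_left hy
      have hbeq : b = y * x⁻¹ := by rw [hb, hxa]
      have hyb : y * b = (wG H e l)⁻¹ := by rw [hbeq, ← mul_assoc, hy2, ← hz, mul_inv_rev]
      have hyyb : y * y * b = x⁻¹ := by rw [hbeq, ← mul_assoc, hy, one_mul]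
      have c2 := conj_of_cube_root hy (a := b) (k := k)
        (by rw [hyb, ← mul_inv_rev, ← mul_inv_rev, ← mul_assoc, wG_cube, inv_one])
        (by rw [hyyb, ← mul_inv_rev, ← mul_inv_rev, ← mul_assoc, hx, inv_one]) (by rw [hb, conj_pow, hk'])
      rw [hyb] at c2
      obtain ⟨g1, h1⟩ := isConj_iff.1 ((hxc.trans c1).trans hyc.symm)
      obtain ⟨g2, h2⟩ := isConj_iff.1 ((hyc.trans c2).trans (isConj_wG_inv H e l).symm)
      exact ⟨(wG_fusion H e J hJ hC h1).1, (wG_fusion H e J hJ hC h2).1⟩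
    · exfalso
      have hxt : Commute x t := mul_inv_eq_iff_eq_mul.1 (hxcomm t hta)
      have ht3 : t * t * t = 1 := by
        have e1 : t = b * (b ^ s)⁻¹ := by
          rw [← hxcomm t hta, ht, hu, show x * (a * (a ^ s)⁻¹) * x⁻¹ = (x * a * x⁻¹) * (x * a ^ s * x⁻¹)⁻¹ by
            simp [mul_assoc], ← conj_pow, ← hb]
        have e2 : t = c * (c ^ s)⁻¹ := by
          calc t = x * t * x⁻¹ := (hxcomm t hta).symm
            _ = x * (b * (b ^ s)⁻¹) * x⁻¹ := by rw [← e1]
            _ = (x * b * x⁻¹) * (x * b ^ s * x⁻¹)⁻¹ := by simp [mul_assoc]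
            _ = _ := by rw [← conj_pow, ← hc]
        calc t * t * t = (b * (b ^ s)⁻¹) * (c * (c ^ s)⁻¹) * (a * (a ^ s)⁻¹) := by rw [← e1, ← e2, ← hu, ← ht]
          _ = (b * c) * ((b * c) ^ s)⁻¹ * (a * (a ^ s)⁻¹) := by
            congr 1
            rw [hbc.mul_pow, (hbc.pow_pow s s).eq, mul_inv_rev, ← mul_assoc, mul_assoc b _ c,
              ((hbc.pow_left s).inv_left).eq, ← mul_assoc]
            group
          _ = (b * c * a) * ((b * c * a) ^ s)⁻¹ := by
            have hbca' : b * c = a⁻¹ := eq_inv_of_mul_eq_one_left hbca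
            rw [hbca, one_pow, hbca', inv_pow]
            group
          _ = 1 := by rw [hbca, one_pow, inv_one, one_mul]
      have hwt : Commute (wG H e l) t := by
        rw [← hxxa]
        exact (hxt.mul_left hxt).mul_left (hcomm a haA t htA)
      have c1 := conj_of_cube_root (x := x * t) (a := u) (k := k) ?_ ?_ ?_ hk
      · rw [show x * t * u = y by rw [ht, ← hxa]; group] at c1
        have hxtJ : g⁻¹ * (x * t) * g ∈ J := inJ (hyc.trans c1.symm) (by
          rw [show g⁻¹ * (x * t) * g = (g⁻¹ * x * g) * (g⁻¹ * t * g) by group]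
          exact mul_mem (J_le H e J hJ hxJ) (hgA3 t hta))
        refine ht1 (hcut t hta ?_)
        rw [show g⁻¹ * t * g = (g⁻¹ * x * g)⁻¹ * (g⁻¹ * (x * t) * g) by group]
        exact mul_mem (inv_mem hxJ) hxtJ
      · rw [← pow_three', hxt.mul_pow, pow_three', pow_three', hx, ht3, one_mul]
      · rw [show x * t * u = y by rw [ht, ← hxa]; group]; exact hy
      · have : x * t * (x * t) * u = wG H e l * t := by
          rw [← hxxa]
          calc x * t * (x * t) * u = x * (t * x) * (t * u) := by group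
            _ = x * (x * t) * a := by rw [← hxt.eq, show t * u = a by rw [ht]; group]
            _ = x * x * (t * a) := by group
            _ = _ := by rw [hcomm t htA a haA]; group
        rw [this, ← pow_three', hwt.mul_pow, pow_three', pow_three', wG_cube, ht3, one_mul]

end Main

end CfsgLib.Nine
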