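import Mathlib.Algebra.BigOperators.Group.List.Basic
import Mathlib.Algebra.BigOperators.Group.Finset.Basic
import Mathlib.Tactic

/-!
A verified search for the ways of writing a small integral Gram matrix as a sum of squares of integer
vectors, one coordinate at a time: the possible coefficient matrices of an isometry of a character lattice.
-/

set_option autoImplicit false

namespace CfsgLib.GramSearch

/-- the list `[f (i-1), …, f 0]` -/
def mk (f : ℕ → ℤ) : ℕ → List ℤ
  | 0 => []
  | i + 1 => f i :: mk f i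

/-- coordinatewise sums of squares -/
def suf (i : ℕ) : List (List ℤ) → List ℤ
  | [] => List.replicate i 0
  | c :: cs => List.zipWith (fun x y => x * x + y) c (suf i cs)

/-- the Cauchy–Schwarz test -/
def prune (rem : ℤ) (nd su : List ℤ) : Bool :=
  (List.zipWith (fun a b => decide (a * a ≤ rem * b)) nd su).all id

/-- small vectors with prescribed inner products with the columns found so far -/
def enum (i : ℕ) : List (List ℤ) → ℤ → List ℤ → List (List ℤ × ℤ)
  | [], rem, nd => if nd.all (fun a => decide (a = 0)) then [([], rem)] else []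
  | c :: cs, rem, nd => [-2, -1, 0, 1, 2].flatMap fun s : ℤ =>
      if s * s ≤ rem then
        if prune (rem - s * s) (List.zipWith (fun x y => x - s * y) nd c) (suf i cs) then
          (enum i cs (rem - s * s) (List.zipWith (fun x y => x - s * y) nd c)).map fun p => (s :: p.1, p.2)
        else []
      else []

/-- lists of positive numbers with prescribed sum of squares -/
def comps : ℕ → ℤ → List (List ℤ)
  | 0, n => if n = 0 then [[]] else []
  | k + 1, n => if n = 0 then [[]] else [1, 2].flatMap fun v : ℤ =>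
      if v * v ≤ n then (comps k (n - v * v)).map (v :: ·) else []

/-- all one step extensions -/
def children (g : ℕ → ℕ → ℤ) (i : ℕ) (L : List (List ℤ)) : List (List (List ℤ)) :=
  (enum i L (g i i) (mk (g i) i)).flatMap fun p =>
    (comps 8 p.2).map fun r => List.zipWith (· :: ·) p.1 L ++ r.map (· :: List.replicate i 0)

/-- the check of one level -/
def check (g : ℕ → ℕ → ℤ) (i : ℕ) (A B : List (List (List ℤ))) : Bool :=
  A.all fun L => (children g i L).all fun L' => B.any fun S => L'.isPerm S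

theorem mk_congr {f g : ℕ → ℤ} {i : ℕ} (h : ∀ j < i, f j = g j) : mk f i = mk g i := by
  induction i with
  | zero => rfl
  | succ i ih => rw [mk, mk, h i (Nat.lt_succ_self i), ih fun j hj => h j (Nat.lt_succ_of_lt hj)]

theorem mk_zero (i : ℕ) : mk (fun _ => 0) i = List.replicate i 0 := by
  induction i with
  | zero => rfl
  | succ i ih => rw [mk, ih, List.replicate_succ]

theorem zipWith_mk (F : ℤ → ℤ → ℤ) (f g : ℕ → ℤ) (i : ℕ) :
    List.zipWith F (mk f i) (mk g i) = mk (fun j => F (f j) (g j)) i := by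
  induction i with
  | zero => rfl
  | succ i ih => rw [mk, mk, mk, List.zipWith_cons_cons, ih]

theorem prune_mk {rem : ℤ} {f g : ℕ → ℤ} {i : ℕ} (h : ∀ j < i, f j * f j ≤ rem * g j) :
    prune rem (mk f i) (mk g i) = true := by
  induction i with
  | zero => rfl
  | succ i ih =>
    have h1 := ih fun j hj => h j (Nat.lt_succ_of_lt hj)
    simp only [prune] at h1
    simp only [prune, mk, List.zipWith_cons_cons, List.all_cons, h1, id, Bool.and_true, decide_eq_true_eq]
    exact h i (Nat.lt_succ_self i)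

theorem all_zero_mk {f : ℕ → ℤ} {i : ℕ} (h : ∀ j < i, f j = 0) :
    (mk f i).all (fun a => decide (a = 0)) = true := by
  rw [mk_congr h, mk_zero]
  simp

theorem mem_small {s : ℤ} (h : s * s ≤ 8) : s ∈ [(-2 : ℤ), -1, 0, 1, 2] := by
  have h1 : -2 ≤ s ∧ s ≤ 2 := by constructor <;> nlinarith
  obtain ⟨h1, h2⟩ := h1
  interval_cases s <;> simp

theorem sq_sum_nonneg {ι : Type*} (v : ι → ℤ) (l : List ι) : 0 ≤ (l.map fun χ => v χ * v χ).sum := by
  refine List.sum_nonneg fun x hx => ?_
  obtain ⟨χ, -, rfl⟩ := List.mem_map.1 hx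
  exact mul_self_nonneg _

theorem cauchy {ι : Type*} (v w : ι → ℤ) (l : List ι) :
    (l.map fun χ => v χ * w χ).sum * (l.map fun χ => v χ * w χ).sum ≤
      (l.map fun χ => v χ * v χ).sum * (l.map fun χ => w χ * w χ).sum := by
  induction l with
  | nil => simp
  | cons x l ih =>
    simp only [List.map_cons, List.sum_cons]
    have hB := sq_sum_nonneg v l
    have hC := sq_sum_nonneg w l
    set A := (l.map fun χ => v χ * w χ).sum
    set B := (l.map fun χ => v χ * v χ).sum
    set C := (l.map fun χ => w χ * w χ).sum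
    have key : 2 * A * (v x * w x) ≤ B * (w x * w x) + C * (v x * v x) := by
      rcases eq_or_lt_of_le hB with h0 | h0
      · have : A = 0 := mul_self_eq_zero.1 (le_antisymm (by nlinarith) (mul_self_nonneg A))
        rw [this]
        nlinarith [mul_self_nonneg (w x), mul_self_nonneg (v x)]
      · have h1 : 0 ≤ B * (B * (w x * w x) + C * (v x * v x) - 2 * A * (v x * w x)) := by
          nlinarith [mul_self_nonneg (B * w x - A * v x), mul_self_nonneg (v x),
            mul_nonneg (sub_nonneg.2 ih) (mul_self_nonneg (v x))]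
        nlinarith [nonneg_of_mul_nonneg_right h1 h0]
    nlinarith [mul_self_nonneg (v x), mul_self_nonneg (w x)]

theorem suf_map {ι : Type*} (c : ι → ℕ → ℤ) (i : ℕ) (l : List ι) :
    suf i (l.map fun χ => mk (c χ) i) = mk (fun j => (l.map fun χ => c χ j * c χ j).sum) i := by
  induction l with
  | nil => exact (mk_zero i).symm
  | cons x l ih => simp only [List.map_cons, suf, ih, zipWith_mk, List.sum_cons]

theorem enum_mem {ι : Type*} (v : ι → ℤ) (c : ι → ℕ → ℤ) (i : ℕ) (l : List ι) (rem : ℤ) (nd : ℕ → ℤ)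
    (hnd : ∀ j < i, nd j = (l.map fun χ => v χ * c χ j).sum) (hle : (l.map fun χ => v χ * v χ).sum ≤ rem)
    (h8 : rem ≤ 8) :
    (l.map v, rem - (l.map fun χ => v χ * v χ).sum) ∈ enum i (l.map fun χ => mk (c χ) i) rem (mk nd i) := by
  induction l generalizing rem nd with
  | nil =>
    simp only [List.map_nil, enum, List.sum_nil, sub_zero]
    rw [if_pos (all_zero_mk fun j hj => by simpa using hnd j hj)]
    exact List.mem_singleton.2 rfl
  | cons x l ih =>
    simp only [List.map_cons, List.sum_cons] at hle hnd ⊢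
    have hl := sq_sum_nonneg v l
    simp only [enum, List.mem_flatMap]
    refine ⟨v x, mem_small (by omega), ?_⟩
    rw [if_pos (by omega), zipWith_mk, suf_map, if_pos, List.mem_map]
    · refine ⟨_, ih (rem - v x * v x) (fun j => nd j - v x * c x j) (fun j hj => by rw [hnd j hj]; ring)
        (by omega) (by nlinarith [mul_self_nonneg (v x)]), ?_⟩
      exact Prod.ext rfl (by simp only; ring)
    · refine prune_mk fun j hj => ?_
      rw [hnd j hj, add_sub_cancel_left]
      refine (cauchy v (fun χ => c χ j) l).trans (mul_le_mul_of_nonneg_right (by omega) ?_)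
      exact sq_sum_nonneg (fun χ => c χ j) l

theorem comps_mem (r : List ℤ) (hr : ∀ x ∈ r, 1 ≤ x) (k : ℕ) (n : ℤ) (hs : (r.map fun x => x * x).sum = n)
    (hk : n ≤ k) (h8 : n ≤ 8) : r ∈ comps k n := by
  induction r generalizing k n with
  | nil => cases k <;> simp_all [comps]
  | cons x r ih =>
    simp only [List.map_cons, List.sum_cons] at hs
    have hx : 1 ≤ x := hr x (List.mem_cons_self ..)
    have hl := sq_sum_nonneg id r
    simp only [id] at hl
    have hx1 : 1 ≤ x * x := by nlinarith
    cases k with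
    | zero => simp at hk; omega
    | succ k =>
      rw [comps, if_neg (by omega), List.mem_flatMap]
      refine ⟨x, ?_, ?_⟩
      · have : x ≤ 2 := by nlinarith
        interval_cases x <;> simp
      · rw [if_pos (by omega), List.mem_map]
        exact ⟨r, ih (fun y hy => hr y (List.mem_cons_of_mem _ hy)) k (n - x * x) (by omega)
          (by push_cast at hk; omega) (by omega), rfl⟩

/-- lifting a permutation through a map -/
theorem exists_perm_map {α β : Type*} (f : α → β) {L S : List β} (h : L.Perm S) :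
    ∀ l : List α, l.map f = L → ∃ l' : List α, l'.Perm l ∧ l'.map f = S := by
  induction h with
  | nil => intro l hl; exact ⟨l, List.Perm.refl _, hl⟩
  | cons x _ ih =>
    intro l hl
    obtain ⟨a, t, rfl, rfl, rfl⟩ := List.map_eq_cons_iff.1 hl
    obtain ⟨t', h1, h2⟩ := ih t rfl
    exact ⟨a :: t', h1.cons a, by rw [List.map_cons, h2]⟩
  | swap x y _ =>
    intro l hl
    obtain ⟨a, t, rfl, rfl, ht⟩ := List.map_eq_cons_iff.1 hl
    obtain ⟨b, u, rfl, rfl, rfl⟩ := List.map_eq_cons_iff.1 ht
    exact ⟨b :: a :: u, List.Perm.swap _ _ _, by simp⟩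
  | trans _ _ ih1 ih2 =>
    intro l hl
    obtain ⟨l1, h1, h2⟩ := ih1 l hl
    obtain ⟨l2, h3, h4⟩ := ih2 l1 h2
    exact ⟨l2, h3.trans h1, h4⟩

variable {ι : Type*}

open Classical in
/-- the sign of the first nonzero coordinate -/
noncomputable def sgn (a : ℕ → ι → ℤ) (χ : ι) : ℤ :=
  if h : ∃ j, a j χ ≠ 0 then (if a (Nat.find h) χ < 0 then -1 else 1) else 1

theorem sgn_cases (a : ℕ → ι → ℤ) (χ : ι) : sgn a χ = 1 ∨ sgn a χ = -1 := by
  unfold sgn; split_ifs <;> simp

theorem sgn_mul_pos {a : ℕ → ι → ℤ} {χ : ι} {i : ℕ} (h0 : ∀ j < i, a j χ = 0) (hi : a i χ ≠ 0) :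
    1 ≤ sgn a χ * a i χ := by
  classical
  have h : ∃ j, a j χ ≠ 0 := ⟨i, hi⟩
  have e : Nat.find h = i := (Nat.find_eq_iff h).2 ⟨hi, fun j hj => not_not.2 (h0 j hj)⟩
  rw [sgn, dif_pos h, e]
  split_ifs with h1 <;> omega

/-- the normalized column -/
noncomputable def col (a : ℕ → ι → ℤ) (i : ℕ) (χ : ι) : List ℤ := mk (fun j => sgn a χ * a j χ) i

/-- the first `i` coordinates are described by `L` -/
def Described (a : ℕ → ι → ℤ) (i : ℕ) (L : List (List ℤ)) : Prop :=
  ∃ l : List ι, l.Nodup ∧ l.map (col a i) = L ∧ ∀ χ, χ ∉ l → ∀ j < i, a j χ = 0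

theorem step [Fintype ι] {a : ℕ → ι → ℤ} {g : ℕ → ℕ → ℤ} {i : ℕ} (h8 : g i i ≤ 8)
    (hg : ∀ j ≤ i, ∑ χ, a i χ * a j χ = g i j) {A B : List (List (List ℤ))} (hc : check g i A B = true)
    {L : List (List ℤ)} (hLA : L ∈ A) (hL : Described a i L) : ∃ S ∈ B, Described a (i + 1) S := by
  classical
  obtain ⟨l, hnd, rfl, hz⟩ := hL
  set s := sgn a with hs
  have hss : ∀ χ, s χ * s χ = 1 := fun χ => by rcases sgn_cases a χ with h | h <;> simp [hs, h]
  set new := (Finset.univ.filter fun χ => χ ∉ l ∧ a i χ ≠ 0).toList with hnew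
  have hmem : ∀ χ, χ ∈ new ↔ χ ∉ l ∧ a i χ ≠ 0 := fun χ => by simp [hnew]
  have hnn : (l ++ new).Nodup := List.nodup_append.2
    ⟨hnd, Finset.nodup_toList _, fun x hx y hy e => ((hmem y).1 hy).1 (e ▸ hx)⟩
  have hsum : ∀ F : ι → ℤ, (∀ χ, χ ∉ l → a i χ = 0 → F χ = 0) →
      ∑ χ, F χ = (l.map F).sum + (new.map F).sum := by
    intro F hF
    rw [← List.sum_append, ← List.map_append, ← List.sum_toFinset F hnn,
      ← Finset.sum_subset (Finset.subset_univ (l ++ new).toFinset)]
    intro χ _ hχ
    simp only [List.mem_toFinset, List.mem_append, not_or] at hχ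
    exact hF χ hχ.1 (by_contra fun hne => hχ.2 ((hmem χ).2 ⟨hχ.1, hne⟩))
  have hdot : ∀ j < i, g i j = (l.map fun χ => s χ * a i χ * (s χ * a j χ)).sum := by
    intro j hj
    rw [← hg j hj.le, hsum (fun χ => a i χ * a j χ) fun χ _ h0 => by rw [h0, zero_mul]]
    have h0 : (new.map fun χ => a i χ * a j χ).sum = 0 := List.sum_eq_zero fun x hx => by
      obtain ⟨χ, hχ, rfl⟩ := List.mem_map.1 hx
      rw [hz χ ((hmem χ).1 hχ).1 j hj, mul_zero]
    rw [h0, add_zero]
    exact congrArg List.sum (List.map_congr_left fun χ _ => by linear_combination (-(a i χ * a j χ)) * hss χ)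
  have hsq : g i i = (l.map fun χ => s χ * a i χ * (s χ * a i χ)).sum +
      ((new.map fun χ => s χ * a i χ).map fun x => x * x).sum := by
    rw [← hg i le_rfl, hsum (fun χ => a i χ * a i χ) fun χ _ h0 => by rw [h0, zero_mul], List.map_map]
    congr 1 <;> refine congrArg List.sum (List.map_congr_left fun χ _ => ?_) <;>
      (try simp only [Function.comp_apply]) <;> linear_combination (-(a i χ * a i χ)) * hss χ
  have hr := sq_sum_nonneg id (new.map fun χ => s χ * a i χ)
  have hv := sq_sum_nonneg (fun χ => s χ * a i χ) l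
  simp only [id] at hr
  have h1 := enum_mem (fun χ => s χ * a i χ) (fun χ j => s χ * a j χ) i l (g i i) (g i) hdot (by omega) h8
  have h2 := comps_mem (new.map fun χ => s χ * a i χ) (fun x hx => by
      obtain ⟨χ, hχ, rfl⟩ := List.mem_map.1 hx
      exact sgn_mul_pos (hz χ ((hmem χ).1 hχ).1) ((hmem χ).1 hχ).2) 8
    (g i i - (l.map fun χ => s χ * a i χ * (s χ * a i χ)).sum) (by omega) (by push_cast; omega) (by omega)
  have h3 : (l ++ new).map (col a (i + 1)) ∈ children g i (l.map (col a i)) := by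
    simp only [children, List.mem_flatMap, List.mem_map]
    refine ⟨_, h1, _, h2, ?_⟩
    rw [List.map_append, List.zipWith_map, List.zipWith_self, List.map_map]
    refine congrArg _ (List.map_congr_left fun χ hχ => ?_)
    show s χ * a i χ :: List.replicate i 0 = col a (i + 1) χ
    rw [col, mk, ← mk_zero]
    exact congrArg _ (mk_congr fun j hj => by rw [hz χ ((hmem χ).1 hχ).1 j hj, mul_zero])
  obtain ⟨S, hS, hperm⟩ : ∃ S ∈ B, ((l ++ new).map (col a (i + 1))).Perm S := by
    have := List.all_eq_true.1 (List.all_eq_true.1 hc _ hLA) _ h3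
    obtain ⟨S, hS, hp⟩ := List.any_eq_true.1 this
    exact ⟨S, hS, List.isPerm_iff.1 hp⟩
  obtain ⟨l', hl', hmap⟩ := exists_perm_map (col a (i + 1)) hperm _ rfl
  refine ⟨S, hS, l', hl'.nodup_iff.2 hnn, hmap, fun χ hχ j hj => ?_⟩
  rw [hl'.mem_iff, List.mem_append, not_or, hmem, not_and, not_not] at hχ
  rcases Nat.lt_succ_iff_lt_or_eq.1 hj with h | rfl
  exacts [hz χ hχ.1 j h, hχ.2 hχ.1]

/-- The search: every integral realisation of the Gram matrix is in the last level. -/
theorem search [Fintype ι] {a : ℕ → ι → ℤ} {g : ℕ → ℕ → ℤ} {m : ℕ} (lev : ℕ → List (List (List ℤ)))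
    (h0 : [] ∈ lev 0) (h8 : ∀ i < m, g i i ≤ 8) (hg : ∀ i < m, ∀ j ≤ i, ∑ χ, a i χ * a j χ = g i j)
    (hc : ∀ i < m, check g i (lev i) (lev (i + 1)) = true) : ∃ L ∈ lev m, Described a m L := by
  suffices ∀ i, i ≤ m → ∃ L ∈ lev i, Described a i L from this m le_rfl
  intro i
  induction i with
  | zero => exact fun _ => ⟨[], h0, [], List.nodup_nil, rfl, fun _ _ j hj => absurd hj (Nat.not_lt_zero j)⟩
  | succ i ih =>
    intro hi
    obtain ⟨L, hL, hd⟩ := ih (Nat.le_of_succ_le hi)
    exact step (h8 i hi) (hg i hi) (hc i hi) hL hd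

end CfsgLib.GramSearch
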