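import Cfsg.Agent.Lib.NineNormalizer.Fusion
import Cfsg.Agent.Lib.NineNormalizer.Arith
import Cfsg.Agent.Lib.Char.Exceptional
import Cfsg.Agent.Lib.CharDeep.ClassSum

/-!
A finite group with a subgroup `3³:S₄` containing the centralisers of the strongly closed `3³` is equal to it.
-/

set_option autoImplicit false
set_option maxRecDepth 100000

open scoped ComplexConjugate

namespace CfsgLib.Nine

section Main

variable {G : Type*} [Group G] [Fintype G] (H : Subgroup G) (e : ↥H ≃* Mdl) (J : Subgroup G)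
  (hJ : J = (Cfsg.pCore 3 ↥H).map H.subtype)
  (hC : ∀ j ∈ J, j ≠ 1 → Subgroup.centralizer ({j} : Set G) ≤ H) (hsc : Cfsg.IsStronglyClosed J H)

include e in
theorem card_sub : Nat.card H = 648 := by
  rw [Nat.card_congr e.toEquiv, Nat.card_eq_fintype_card, card_mdl]

/-- induction of a function on the model -/
noncomputable def up (f : Mdl → ℂ) : G → ℂ := Cfsg.indFun H (fun h => f (e h))

theorem classInner_up (f : Mdl → ℂ) {θ : G → ℂ} (hθ : Cfsg.IsClassFunction G θ) :
    Cfsg.classInner (up H e f) θ = (648 : ℂ)⁻¹ * ∑ x : Mdl, f x * conj (θ (emb H e x)) := by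
  classical
  rw [up, Char.classInner_indFun H _ _ hθ]
  unfold Cfsg.classInner
  rw [card_sub H e]
  congr 1
  exact Fintype.sum_equiv e.toEquiv _ _ fun h => by
    simp [emb]

theorem isGen_up {f : Mdl → ℂ} (hf : Cfsg.IsGeneralizedCharacter Mdl f) :
    Cfsg.IsGeneralizedCharacter G (up H e f) :=
  Char.IsGeneralizedCharacter.indFun H (Char.IsGeneralizedCharacter.comp hf e.toMonoidHom)

include hJ hC hsc in
theorem up_apply {f : Mdl → ℂ} (hcl : ∀ g x, f (g * x * g⁻¹) = f x)
    (hf : ∀ x, f x ≠ 0 → ∃ k : ℕ, IsTr (x ^ k) ∧ x ^ k ≠ 1) {x : Mdl} (hx : f x ≠ 0) :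
    up H e f (emb H e x) = f x := by
  classical
  rw [up, Char.indFun_apply, ← Finset.sum_subset (s₁ := Finset.univ.filter (· ∈ H)) (Finset.subset_univ _) ?_]
  · rw [Finset.sum_congr rfl (g := fun _ => f x) ?_, Finset.sum_const, nsmul_eq_mul]
    · rw [← Fintype.card_subtype, ← Nat.card_eq_fintype_card, ← mul_assoc, inv_mul_cancel₀, one_mul]
      exact Nat.cast_ne_zero.mpr (Nat.card_pos (α := H)).ne'
    · intro g hg
      obtain ⟨m, rfl⟩ := exists_emb H e (Finset.mem_filter.mp hg).2
      rw [← map_inv, ← map_mul, ← map_mul,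
        show emb H e (m⁻¹ * x * m) = ((e.symm (m⁻¹ * x * m) : H) : G) from rfl, Char.extendByZero_coe]
      simp only [MulEquiv.apply_symm_apply]
      simpa using hcl m⁻¹ x
  · intro g _ hg
    by_cases hm : g⁻¹ * emb H e x * g ∈ H
    · exfalso
      refine hg (Finset.mem_filter.2 ⟨Finset.mem_univ _, ?_⟩)
      obtain ⟨k, hk1, hk2⟩ := hf x hx
      have hj : emb H e (x ^ k) ∈ J := (mem_J_iff H e J hJ).2 ⟨_, hk1, rfl⟩
      have hj1 : emb H e (x ^ k) ≠ 1 := fun e' => hk2 (emb_injective H e (e'.trans (map_one _).symm))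
      have := ti H e J hJ hC hsc (g := g⁻¹) hj hj1 (by
        rw [map_pow, ← conj_pow, inv_inv]
        exact pow_mem hm k)
      simpa using inv_mem this
    · exact Char.extendByZero_of_notMem H _ hm

theorem conj_wG_value (i : Fin 3) (χ : Cfsg.IrrCharacter G) :
    conj ((χ : G → ℂ) (wG H e i)) = (χ : G → ℂ) (wG H e i) := by
  obtain ⟨g, hg⟩ := isConj_iff.1 (isConj_wG_inv H e i)
  rw [← Char.IsIrrCharacter.apply_inv χ.2, ← hg]
  exact Char.IsIrrCharacter.isClassFunction χ.2 _ _

theorem sum_ind (i : Fin 3) (χ : Cfsg.IrrCharacter G) :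
    ∑ x : Mdl, (if cls x = wcl i then (csz i : ℂ) else 0) * conj ((χ : G → ℂ) (emb H e x)) =
      648 * (χ : G → ℂ) (wG H e i) := by
  classical
  simp only [ite_mul, zero_mul]
  rw [← Finset.sum_filter, Finset.sum_congr rfl (g := fun _ => (csz i : ℂ) * (χ : G → ℂ) (wG H e i)),
    Finset.sum_const, card_cls, nsmul_eq_mul, ← mul_assoc, ← Nat.cast_mul]
  · have : size (wcl i) * csz i = 648 := by revert i; decide
    rw [this]
    norm_num
  · intro x hx
    obtain ⟨h, hh⟩ := exists_conj_rep x
    rw [(Finset.mem_filter.1 hx).2] at hh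
    rw [← hh, map_mul, map_mul, map_inv, Char.IsIrrCharacter.isClassFunction χ.2 _ _]
    congr 1
    exact conj_wG_value H e i χ

theorem isGen_reg : Cfsg.IsGeneralizedCharacter Mdl (fun x => if IsTr x then (24 : ℂ) else 0) := by
  classical
  have h := Char.IsGeneralizedCharacter.indFun (G := Mdl) trans (Char.IsGeneralizedCharacter.one (G := trans))
  convert h using 1
  funext g
  rw [Char.indFun_apply]
  have hc : Nat.card trans = 27 := by
    rw [show Nat.card trans = Nat.card {x : Mdl // IsTr x} from rfl, Nat.card_eq_fintype_card, Fintype.card_subtype]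
    decide +kernel
  have hn := trans_normal
  by_cases hg : IsTr g
  · rw [if_pos hg, Finset.sum_congr rfl (g := fun _ => (1 : ℂ)) fun x _ => ?_, Finset.sum_const, Finset.card_univ,
      card_mdl, hc]
    · norm_num
    · rw [Char.extendByZero_apply_mem trans _ (by simpa using hn.conj_mem g hg x⁻¹)]
      rfl
  · rw [if_neg hg, Finset.sum_eq_zero fun x _ => ?_, mul_zero]
    refine Char.extendByZero_of_notMem trans _ fun hm => hg ?_
    have := hn.conj_mem _ hm x
    simpa [mul_assoc, mem_trans] using this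

include hJ hC hsc in
theorem pairs_card {i j l : Fin 3} (hne : ¬ (i = j ∧ j = l)) [DecidableEq G]
    [DecidablePred (IsConj (wG H e i))] [DecidablePred (IsConj (wG H e j))] :
    ((Finset.univ.filter (IsConj (wG H e i)) ×ˢ Finset.univ.filter (IsConj (wG H e j))).filter
      (fun p => p.1 * p.2 = wG H e l)).card = pairCount i j l := by
  classical
  have hcl : ∀ {k : Fin 3} {m : Mdl}, IsTr m → (cls m = wcl k ↔ IsConj (wG H e k) (emb H e m)) := by
    intro k m hm
    constructor
    · intro hc
      obtain ⟨h, hh⟩ := exists_conj_rep m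
      rw [hc] at hh
      exact isConj_iff.2 ⟨emb H e h, by rw [wG, ← map_inv, ← map_mul, ← map_mul]; exact congrArg _ hh⟩
    · intro hc
      obtain ⟨g, hg⟩ := isConj_iff.1 hc
      have hgH : g ∈ H := ti H e J hJ hC hsc (wG_mem H e J hJ k) (wG_ne H e k) (hg ▸ emb_mem H e m)
      obtain ⟨h, rfl⟩ := exists_emb H e hgH
      rw [wG, ← map_inv, ← map_mul, ← map_mul] at hg
      rw [← emb_injective H e hg]
      exact cls_conj_wt3 k h
  symm
  refine Finset.card_bij (fun v _ => (emb H e ⟨v, 0⟩, emb H e ((⟨v, 0⟩ : Mdl)⁻¹ * wt3 l))) ?_ ?_ ?_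
  · intro v hv
    obtain ⟨h1, h2⟩ := (Finset.mem_filter.1 hv).2
    have t1 : IsTr (⟨v, 0⟩ : Mdl) := rfl
    refine Finset.mem_filter.2 ⟨Finset.mem_product.2 ⟨Finset.mem_filter.2 ⟨Finset.mem_univ _, (hcl t1).1 h1⟩,
      Finset.mem_filter.2 ⟨Finset.mem_univ _,
        (hcl (isTr_mul (tr_facts.2.1 _ t1).2 (wt3_facts l).1)).1 h2⟩⟩, ?_⟩
    rw [← map_mul, mul_inv_cancel_left]
    rfl
  · intro v _ w _ h
    have := emb_injective H e (Prod.mk.inj h).1
    exact congrArg Mdl.v this
  · rintro ⟨x, y⟩ hp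
    obtain ⟨hp1, hz⟩ := Finset.mem_filter.1 hp
    obtain ⟨hx, hy⟩ := Finset.mem_product.1 hp1
    replace hx := (Finset.mem_filter.1 hx).2
    replace hy := (Finset.mem_filter.1 hy).2
    obtain ⟨hxJ, hyJ⟩ := triangle H e J hJ hC hsc hne hx hy hz
    obtain ⟨m, hm, rfl⟩ := (mem_J_iff H e J hJ).1 hxJ
    obtain ⟨m', hm', rfl⟩ := (mem_J_iff H e J hJ).1 hyJ
    have hmm : (⟨m.v, 0⟩ : Mdl) = m := by cases m; simp only [IsTr] at hm; subst hm; rfl
    have hm2 : m⁻¹ * wt3 l = m' := by
      apply emb_injective H e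
      rw [map_mul, map_inv]
      show _ * wG H e l = _
      rw [← hz, inv_mul_cancel_left]
    refine ⟨m.v, Finset.mem_filter.2 ⟨Finset.mem_univ _, ?_, ?_⟩, ?_⟩
    · rw [hmm]; exact (hcl hm).2 hx
    · rw [hmm, hm2]; exact (hcl hm').2 hy
    · simp only [hmm, hm2]

set_option maxHeartbeats 1000000 in
include e hJ hC hsc in
theorem index_eq_one : H.index = 1 := by
  classical
  set n := H.index with hn
  have hn0 : 0 < n := Nat.pos_of_ne_zero (Subgroup.index_ne_zero_of_finite)
  have hG : Nat.card G = 648 * n := by rw [← H.card_mul_index, card_sub H e]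
  set P : Cfsg.IrrCharacter G := Char.principalIrr with hP
  have hPone : (P : G → ℂ) = fun _ => 1 := rfl
  choose dg hdg0 hdg using fun χ : Cfsg.IrrCharacter G => Char.IsIrrCharacter.exists_degree χ.2
  choose z hz using fun (j : ℕ) (χ : Cfsg.IrrCharacter G) =>
    show ∃ t : ℤ, j < 9 → Cfsg.classInner (up H e (bv j)) χ = t from
      if h : j < 9 then (CharExc.exists_int_classInner (isGen_up H e (isGen_bv h)) χ.2).imp fun _ ht _ => ht
      else ⟨0, fun h' => absurd h' h⟩
  have hgen : ∀ {j}, j < 9 → Cfsg.IsClassFunction G (up H e (bv j)) := fun h =>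
    Char.IsGeneralizedCharacter.isClassFunction (isGen_up H e (isGen_bv h))
  have hzP : ∀ j < 9, z j P = triv j := by
    intro j hj
    have h := hz j P hj
    rw [classInner_up H e _ (Char.IsIrrCharacter.isClassFunction P.2), hPone] at h
    simp only [map_one, mul_one] at h
    rw [sum_bv hj, ← mul_assoc, inv_mul_cancel₀ (by norm_num), one_mul] at h
    exact_mod_cast h.symm
  have hgram : ∀ i < 9, ∀ j ≤ i, ∑ χ, z i χ * z j χ = gram i j := by
    intro i hi j hji
    have hj : j < 9 := lt_of_le_of_lt hji hi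
    have h1 : Cfsg.classInner (up H e (bv i)) (up H e (bv j)) = (gram i j : ℂ) := by
      rw [classInner_up H e _ (hgen hj), ← classInner_bv hi hji]
      unfold Cfsg.classInner
      rw [Nat.card_eq_fintype_card, card_mdl]
      congr 1
      refine Finset.sum_congr rfl fun x _ => ?_
      by_cases hx : bv i x = 0
      · rw [hx, zero_mul, zero_mul]
      by_cases hx' : bv j x = 0
      · rw [hx']
        congr 2
        obtain ⟨k, hk1, hk2⟩ := bv_supp hi hx
        have : up H e (bv j) (emb H e x) = 0 := by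
          rw [up, Char.indFun_apply, Finset.sum_eq_zero fun g _ => ?_, mul_zero]
          by_cases hm : g⁻¹ * emb H e x * g ∈ H
          · have hg : g ∈ H := by
              have := ti H e J hJ hC hsc (g := g⁻¹) (j := emb H e (x ^ k))
                ((mem_J_iff H e J hJ).2 ⟨_, hk1, rfl⟩)
                (fun e' => hk2 (emb_injective H e (e'.trans (map_one _).symm)))
                (by rw [map_pow, ← conj_pow, inv_inv]; exact pow_mem hm k)
              simpa using inv_mem this
            obtain ⟨m, rfl⟩ := exists_emb H e hg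
            rw [← map_inv, ← map_mul, ← map_mul,
              show emb H e (m⁻¹ * x * m) = ((e.symm (m⁻¹ * x * m) : H) : G) from rfl, Char.extendByZero_coe]
            simp only [MulEquiv.apply_symm_apply]
            have h3 := bv_class hj m⁻¹ x
            rw [inv_inv] at h3
            rw [h3, hx']
          · exact Char.extendByZero_of_notMem H _ hm
        exact this
      · rw [up_apply H e J hJ hC hsc (bv_class hj) (fun y hy => bv_supp hj hy) hx']
    rw [Char.classInner_eq_sum (hgen hi) (hgen hj)] at h1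
    simp only [hz i _ hi, hz j _ hj, map_intCast] at h1
    exact_mod_cast h1
  have hdeg : ∀ j < 9, ∑ χ, z j χ * (dg χ : ℤ) = 0 := by
    intro j hj
    have h1 := congrFun (Char.IsClassFunction.eq_sum_classInner (hgen hj)) 1
    have h0 : up H e (bv j) 1 = 0 := by
      rw [up, Char.indFun_apply_one, map_one]
      have : bv j 1 = 0 := by
        by_contra hne
        obtain ⟨k, -, hk⟩ := bv_supp hj hne
        exact hk (one_pow k)
      rw [this, mul_zero]
    rw [h0] at h1
    simp only [Finset.sum_apply, Pi.smul_apply, smul_eq_mul, hz j _ hj, hdg] at h1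
    exact_mod_cast h1.symm
  set f : Fin 3 → Cfsg.IrrCharacter G → ℤ := fun i χ =>
    ((List.range 9).map fun k => (phiC i).getD k 0 * z k χ).sum with hf
  have hfv : ∀ i (χ : Cfsg.IrrCharacter G), (χ : G → ℂ) (wG H e i) = (f i χ : ℂ) := by
    intro i χ
    have h1 : ∑ j ∈ Finset.range 9, ((phiC i).getD j 0 : ℂ) * Cfsg.classInner (up H e (bv j)) χ =
        (χ : G → ℂ) (wG H e i) := by
      simp only [classInner_up H e _ (Char.IsIrrCharacter.isClassFunction χ.2)]
      simp only [mul_left_comm _ (648 : ℂ)⁻¹, ← Finset.mul_sum]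
      have : ∑ j ∈ Finset.range 9, ((phiC i).getD j 0 : ℂ) * ∑ x, bv j x * conj ((χ : G → ℂ) (emb H e x)) =
          648 * (χ : G → ℂ) (wG H e i) := by
        rw [← sum_ind H e i χ]
        simp only [Finset.mul_sum]
        rw [Finset.sum_comm]
        refine Finset.sum_congr rfl fun x _ => ?_
        rw [← phi_eq i x, Finset.sum_mul]
        exact Finset.sum_congr rfl fun j _ => by ring
      rw [this]
      ring
    rw [← h1, hf]
    simp only
    rw [← List.sum_toFinset _ List.nodup_range, List.toFinset_range]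
    push_cast
    exact Finset.sum_congr rfl fun j hj => by rw [hz j χ (Finset.mem_range.1 hj)]
  have hfP : ∀ i, f i P = 1 := by
    intro i
    have := hfv i P
    rw [hPone] at this
    beta_reduce at this
    exact_mod_cast this.symm
  have hdP : dg P = 1 := by
    have := hdg P
    rw [hPone] at this
    beta_reduce at this
    exact_mod_cast this.symm
  have hmom : ∀ i j l : Fin 3, ¬ (i = j ∧ j = l) →
      ∑ χ, ((f i χ * f j χ * f l χ : ℤ) : ℚ) / (dg χ : ℚ) = rhs i j l / n := by
    intro i j l hne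
    have h := CharDeep.ClassSum.card_pairs (wG H e i) (wG H e j) (wG H e l)
    rw [pairs_card H e J hJ hC hsc hne] at h
    simp only [conj_wG_value, hfv, hdg, hG, map_intCast] at h
    have hsize : ∀ k : Fin 3, ((Finset.univ.filter (IsConj (wG H e k))).card : ℂ) * (csz k : ℂ) = 648 * (n : ℂ) := by
      intro k
      have h1 := Char.card_isConj_mul_card_centralizer (wG H e k)
      rw [card_centralizer_wG H e J hJ hC k, Nat.card_eq_fintype_card (α := {x : G // IsConj (wG H e k) x}),
        Fintype.card_subtype, hG] at h1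
      exact_mod_cast h1
    have key : ∑ χ, ((f i χ * f j χ * f l χ : ℤ) : ℂ) / (dg χ : ℂ) =
        ((pairCount i j l * csz i * csz j : ℕ) : ℂ) / 648 / (n : ℂ) := by
      have hn' : (n : ℂ) ≠ 0 := Nat.cast_ne_zero.2 hn0.ne'
      have ci : (csz i : ℂ) ≠ 0 := fun e' => by have := hsize i; rw [e', mul_zero] at this; simp [hn'] at this
      have cj : (csz j : ℂ) ≠ 0 := fun e' => by have := hsize j; rw [e', mul_zero] at this; simp [hn'] at this
      have e1 : ((Finset.univ.filter (IsConj (wG H e i))).card : ℂ) = 648 * (n : ℂ) / (csz i : ℂ) := by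
        rw [eq_div_iff ci, hsize i]
      have e2 : ((Finset.univ.filter (IsConj (wG H e j))).card : ℂ) = 648 * (n : ℂ) / (csz j : ℂ) := by
        rw [eq_div_iff cj, hsize j]
      rw [e1, e2] at h
      push_cast at h ⊢
      rw [h]
      field_simp
    have key2 : ((∑ χ, ((f i χ * f j χ * f l χ : ℤ) : ℚ) / (dg χ : ℚ) : ℚ) : ℂ) = ((rhs i j l / n : ℚ) : ℂ) := by
      simp only [rhs]
      push_cast at key ⊢
      exact key
    exact_mod_cast key2
  have hcong : ∀ χ, (27 : ℤ) ∣ dg χ + (6 * f 0 χ + 12 * f 1 χ + 8 * f 2 χ) := by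
    intro χ
    obtain ⟨t, ht⟩ := CharExc.exists_int_classInner (isGen_up H e isGen_reg) χ.2
    refine ⟨t, ?_⟩
    rw [classInner_up H e _ (Char.IsIrrCharacter.isClassFunction χ.2)] at ht
    have hsum := sum_classes (fun x => (if IsTr x then (24 : ℂ) else 0) * conj ((χ : G → ℂ) (emb H e x))) (fun g x => by
      have : IsTr (g * x * g⁻¹) ↔ IsTr x :=
        ⟨fun h => by simpa [mul_assoc, mem_trans] using trans_normal.conj_mem _ h g⁻¹, fun h => trans_normal.conj_mem _ h g⟩
      rw [map_mul, map_mul, map_inv, Char.IsIrrCharacter.isClassFunction χ.2 _ _]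
      simp only [this])
    rw [hsum] at ht
    have r0 : rep 0 = 1 := by decide
    have hw : ∀ k, rep (wcl k) = wt3 k := fun _ => rfl
    have e1 : IsTr (rep 0) ∧ IsTr (rep 1) ∧ IsTr (rep 2) ∧ IsTr (rep 3) ∧
        ∀ r : Fin 14, 4 ≤ r.val → ¬ IsTr (rep r) := by decide
    rw [← Fintype.sum_equiv (Equiv.refl (Fin 14)) _ _ (fun r => rfl)] at ht
    simp only [Equiv.refl_apply, Fin.sum_univ_succ, Fin.sum_univ_zero] at ht
    have s0 : size 0 = 1 ∧ size 1 = 6 ∧ size 2 = 12 ∧ size 3 = 8 := by decide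
    have v1 := hfv 0 χ
    have v2 := hfv 1 χ
    have v3 := hfv 2 χ
    have w1 : emb H e (rep 1) = wG H e 0 := rfl
    have w2 : emb H e (rep 2) = wG H e 1 := rfl
    have w3 : emb H e (rep 3) = wG H e 2 := rfl
    simp [e1.1, e1.2.1, e1.2.2.1, e1.2.2.2.1, e1.2.2.2.2, s0.1, s0.2.1, s0.2.2.1, s0.2.2.2,
      w1, w2, w3, r0, v1, v2, v3, hdg, tr_facts.1] at ht
    have : ((dg χ : ℤ) : ℂ) + (6 * (f 0 χ : ℂ) + 12 * (f 1 χ : ℂ) + 8 * (f 2 χ : ℂ)) = 27 * (t : ℂ) := by
      push_cast
      linear_combination 27 * ht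
    exact_mod_cast this
  have hsize : ∑ χ : Cfsg.IrrCharacter G, dg χ * dg χ = 648 * n := by
    have h := Char.sum_mul_conj (1 : G) 1
    rw [if_pos (IsConj.refl 1)] at h
    simp only [hdg, map_natCast] at h
    have hc : Nat.card (Subgroup.centralizer ({1} : Set G)) = Nat.card G := by
      rw [Subgroup.centralizer_eq_top_iff_subset.2 (by simp), Subgroup.card_top]
    rw [hc, hG] at h
    exact_mod_cast h
  have hsub : ∀ {R : Type} [AddCommMonoid R] (F : Cfsg.IrrCharacter G → R),
      ∑ χ, F χ = F P + ∑ χ : {χ : Cfsg.IrrCharacter G // χ ≠ P}, F χ := by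
    intro R _ F
    rw [← Finset.sum_subtype (Finset.univ.erase P) (fun χ => by simp) F, Finset.add_sum_erase _ _ (Finset.mem_univ P)]
  refine n_eq_one (ι := {χ : Cfsg.IrrCharacter G // χ ≠ P}) (a := fun j χ => z j χ) hn0 (fun χ => dg χ)
    (fun χ => hdg0 χ) (fun i hi j hji => ?_) (fun j hj => ?_) (fun i j l hne => ?_) (fun χ => hcong χ) ?_
  · have := hgram i hi j hji
    rw [hsub, hzP i hi, hzP j (lt_of_le_of_lt hji hi)] at this
    simp only [gram']
    linear_combination this
  · have := hdeg j hj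
    rw [hsub, hzP j hj, hdP] at this
    linear_combination this
  · have := hmom i j l hne
    rw [hsub, hfP, hfP, hfP, hdP] at this
    rw [← this]
    simp only [Int.cast_one, one_mul, Nat.cast_one, div_one]
    rw [add_comm]
  · rw [← hsize, hsub (fun χ => dg χ * dg χ)]
    exact Nat.le_add_left _ _

include e hJ hC hsc in
theorem eq_top : H = ⊤ := Subgroup.index_eq_one.1 (index_eq_one H e J hJ hC hsc)

end Main

end CfsgLib.Nine
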