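import Cfsg.Agent.Lib.NineNormalizer.Data
import Mathlib.Algebra.Group.Subgroup.Map
import Mathlib.Data.Fintype.Prod
import Mathlib.Data.Fintype.Perm
import Mathlib.GroupTheory.Perm.Fin

/-!
The group `3³:S₄` of order 648, the normalizer in `Alt(9)` of `3³`, with its conjugacy classes.
-/

set_option autoImplicit false
set_option maxRecDepth 100000

namespace CfsgLib.Nine

/-- the elements -/
structure Mdl where
  /-- translation part -/
  v : Fin 27
  /-- complement part -/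
  s : Fin 24
deriving DecidableEq

/-- the obvious bijection -/
def Mdl.toProd : Mdl ≃ Fin 27 × Fin 24 := ⟨fun x => (x.v, x.s), fun p => ⟨p.1, p.2⟩, fun _ => rfl, fun _ => rfl⟩

instance : Fintype Mdl := Fintype.ofEquiv _ Mdl.toProd.symm

/-- addition in `3³` -/
def vadd (a b : Fin 27) : Fin 27 :=
  ⟨(a.val + b.val) % 3 + 3 * ((a.val / 3 + b.val / 3) % 3) + 9 * ((a.val / 9 + b.val / 9) % 3), by omega⟩

/-- negation in `3³` -/
def vneg (a : Fin 27) : Fin 27 :=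
  ⟨(3 - a.val % 3) % 3 + 3 * ((3 - a.val / 3 % 3) % 3) + 9 * ((3 - a.val / 9) % 3), by omega⟩

/-- multiplication in `S₄` -/
def smul' (s t : Fin 24) : Fin 24 := ⟨mulT / 24 ^ (24 * s.val + t.val) % 24, Nat.mod_lt _ (by decide)⟩

/-- inversion in `S₄` -/
def sinv (s : Fin 24) : Fin 24 := ⟨invT / 24 ^ s.val % 24, Nat.mod_lt _ (by decide)⟩

/-- the action -/
def act (s : Fin 24) (v : Fin 27) : Fin 27 := ⟨actT / 27 ^ (27 * s.val + v.val) % 27, Nat.mod_lt _ (by decide)⟩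

theorem vadd_assoc : ∀ a b c : Fin 27, vadd (vadd a b) c = vadd a (vadd b c) := by decide +kernel
theorem smul'_assoc : ∀ a b c : Fin 24, smul' (smul' a b) c = smul' a (smul' b c) := by decide +kernel
theorem act_smul' : ∀ a b : Fin 24, ∀ v : Fin 27, act (smul' a b) v = act a (act b v) := by decide +kernel
theorem act_vadd : ∀ a : Fin 24, ∀ v w : Fin 27, act a (vadd v w) = vadd (act a v) (act a w) := by decide +kernel

instance : Mul Mdl := ⟨fun x y => ⟨vadd x.v (act x.s y.v), smul' x.s y.s⟩⟩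
instance : One Mdl := ⟨⟨0, 0⟩⟩
instance : Inv Mdl := ⟨fun x => ⟨act (sinv x.s) (vneg x.v), sinv x.s⟩⟩

theorem mdl_mul_def (x y : Mdl) : x * y = ⟨vadd x.v (act x.s y.v), smul' x.s y.s⟩ := rfl

theorem mdl_axioms : ∀ x : Mdl, 1 * x = x ∧ x * 1 = x ∧ x⁻¹ * x = 1 := by decide +kernel

instance : Group Mdl where
  mul_assoc x y z := by simp only [mdl_mul_def, smul'_assoc, act_vadd, act_smul', vadd_assoc]
  one_mul x := (mdl_axioms x).1
  mul_one x := (mdl_axioms x).2.1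
  inv_mul_cancel x := (mdl_axioms x).2.2

theorem card_mdl : Fintype.card Mdl = 648 := by decide +kernel

/-- the translations -/
def IsTr (x : Mdl) : Prop := x.s = 0

instance : DecidablePred IsTr := fun x => inferInstanceAs (Decidable (x.s = 0))

theorem tr_facts : IsTr 1 ∧ (∀ x : Mdl, IsTr x → x * x * x = 1 ∧ IsTr x⁻¹) ∧
    ∀ s : Fin 24, smul' 0 s = s ∧ smul' (smul' s 0) (sinv s) = 0 := by decide +kernel

theorem isTr_mul {x y : Mdl} (hx : IsTr x) (hy : IsTr y) : IsTr (x * y) := by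
  show smul' x.s y.s = 0
  rw [show x.s = 0 from hx, show y.s = 0 from hy]
  exact (tr_facts.2.2 0).1

/-- the translation subgroup -/
def trans : Subgroup Mdl where
  carrier := {x | IsTr x}
  one_mem' := tr_facts.1
  mul_mem' := isTr_mul
  inv_mem' {x} hx := (tr_facts.2.1 x hx).2

theorem mem_trans {x : Mdl} : x ∈ trans ↔ IsTr x := Iff.rfl

theorem trans_normal : trans.Normal := ⟨fun x hx g => by
  show smul' (smul' g.s x.s) (sinv g.s) = 0
  rw [show x.s = 0 from hx]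
  exact (tr_facts.2.2 g.s).2⟩

/-- an element of the four-group -/
def vf : Mdl := ⟨0, 1⟩

theorem not_tr_witness : ∀ x : Mdl, x ^ 9 = 1 → ¬ IsTr x → (vf * x * vf⁻¹ * x⁻¹) ^ 9 ≠ 1 := by decide +kernel

/-- class representatives -/
def rep (r : Fin 14) : Mdl := Mdl.toProd.symm (repL.getD r.val (0, 0))

/-- class sizes -/
def size (r : Fin 14) : ℕ := sizeL.getD r.val 0

/-- the number of an element -/
def code (x : Mdl) : ℕ := x.v.val + 27 * x.s.val

/-- the class of an element -/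
def cls (x : Mdl) : Fin 14 := ⟨clsT / 16 ^ code x % 16 % 14, Nat.mod_lt _ (by decide)⟩

/-- a conjugator -/
def cj (x : Mdl) : Mdl :=
  ⟨⟨cjT / 1024 ^ code x % 1024 % 27, Nat.mod_lt _ (by decide)⟩,
    ⟨cjT / 1024 ^ code x % 1024 / 27 % 24, Nat.mod_lt _ (by decide)⟩⟩

theorem cj_spec : ∀ x : Mdl, cj x * rep (cls x) * (cj x)⁻¹ = x := by decide +kernel
theorem card_cls : ∀ r : Fin 14, (Finset.univ.filter fun x : Mdl => cls x = r).card = size r := by decide +kernel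

theorem exists_conj_rep (x : Mdl) : ∃ h, h * rep (cls x) * h⁻¹ = x := ⟨cj x, cj_spec x⟩

theorem sum_classes {R : Type*} [NonAssocSemiring R] (F : Mdl → R) (hF : ∀ g x : Mdl, F (g * x * g⁻¹) = F x) :
    ∑ x, F x = ∑ r, (size r : R) * F (rep r) := by
  rw [← Finset.sum_fiberwise_of_maps_to (s := Finset.univ) (t := Finset.univ) (g := cls) (fun _ _ => Finset.mem_univ _)]
  refine Finset.sum_congr rfl fun r _ => ?_
  rw [Finset.sum_congr rfl (g := fun _ => F (rep r)), Finset.sum_const, card_cls, nsmul_eq_mul]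
  intro x hx
  obtain ⟨h, hh⟩ := exists_conj_rep x
  rw [(Finset.mem_filter.1 hx).2] at hh
  rw [← hh, hF]

/-- the three classes of translations -/
def wcl (i : Fin 3) : Fin 14 := ⟨i.val + 1, by omega⟩

/-- representatives of the classes of translations -/
def wt3 (i : Fin 3) : Mdl := rep (wcl i)

theorem cls_tr : ∀ x : Mdl, IsTr x → x ≠ 1 → ∃ i, cls x = wcl i := by decide +kernel
theorem wt3_facts : ∀ i, IsTr (wt3 i) ∧ wt3 i ≠ 1 ∧ cls (wt3 i) = wcl i ∧ cls (wt3 i)⁻¹ = wcl i := by decide +kernel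
theorem cls_rep : ∀ r, cls (rep r) = r := by decide +kernel
theorem cls_eq_one : ∀ x : Mdl, cls x = 0 → x = 1 := by decide +kernel

/-- sizes of the centralisers of the translations -/
def csz (i : Fin 3) : ℕ := ![108, 54, 81] i

theorem card_centralizer : ∀ i, (Finset.univ.filter fun g : Mdl => g * wt3 i * g⁻¹ = wt3 i).card = csz i := by
  decide +kernel

theorem csz_inj : ∀ i j, csz i = csz j → i = j := by decide +kernel

/-- elements with a power a nontrivial translation -/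
theorem support : ∀ r : Fin 14, r ∉ [(0 : Fin 14), 4, 5, 6, 7] →
    ∃ k : Fin 13, IsTr (rep r ^ k.val) ∧ rep r ^ k.val ≠ 1 := by decide +kernel

/-- the number of factorisations -/
def pairCount (i j l : Fin 3) : ℕ :=
  (Finset.univ.filter fun v : Fin 27 => cls ⟨v, 0⟩ = wcl i ∧ cls ((⟨v, 0⟩ : Mdl)⁻¹ * wt3 l) = wcl j).card

/-- the point map -/
def pfun (x : Mdl) (n : Fin 9) : Fin 9 :=
  ⟨3 * (linT / 9 ^ (9 * x.s.val + n.val) % 9 / 3) +
    (linT / 9 ^ (9 * x.s.val + n.val) % 9 % 3 + x.v.val / 3 ^ (linT / 9 ^ (9 * x.s.val + n.val) % 9 / 3) % 3) % 3,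
    by omega⟩

theorem pfun_split : ∀ (x : Mdl) (n : Fin 9), pfun x n = pfun ⟨x.v, 0⟩ (pfun ⟨0, x.s⟩ n) := by decide +kernel
theorem pfun_tr : ∀ (a b : Fin 27) (n : Fin 9), pfun ⟨vadd a b, 0⟩ n = pfun ⟨a, 0⟩ (pfun ⟨b, 0⟩ n) := by
  decide +kernel
theorem pfun_lin : ∀ (s t : Fin 24) (n : Fin 9), pfun ⟨0, smul' s t⟩ n = pfun ⟨0, s⟩ (pfun ⟨0, t⟩ n) := by
  decide +kernel
theorem pfun_swap : ∀ (s : Fin 24) (v : Fin 27) (n : Fin 9),
    pfun ⟨act s v, 0⟩ (pfun ⟨0, s⟩ n) = pfun ⟨0, s⟩ (pfun ⟨v, 0⟩ n) := by decide +kernel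
theorem pfun_one : ∀ n : Fin 9, pfun 1 n = n := by decide +kernel
theorem pfun_inj : ∀ x : Mdl, (∀ n, pfun x n = n) → x = 1 := by decide +kernel

theorem pfun_mul (x y : Mdl) (n : Fin 9) : pfun (x * y) n = pfun x (pfun y n) := by
  rw [pfun_split x, pfun_split y, pfun_split (x * y), mdl_mul_def, pfun_tr, pfun_lin, pfun_swap]

/-- the action on nine points -/
def nine : Mdl →* Equiv.Perm (Fin 9) :=
  MonoidHom.mk' (fun x => ⟨pfun x, pfun x⁻¹,
      fun n => by rw [← pfun_mul, inv_mul_cancel, pfun_one],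
      fun n => by rw [← pfun_mul, mul_inv_cancel, pfun_one]⟩)
    fun x y => Equiv.ext fun n => pfun_mul x y n

/-- the generators -/
def gens : List Mdl := [⟨1, 0⟩, ⟨0, 12⟩, ⟨4, 3⟩, ⟨9, 8⟩]

/-- words for the translations and the complement -/
def wordL : List (List ℕ) := [[0], [3, 0, 3], [1, 1, 0, 1], [], [1, 2, 0, 1, 0, 1], [1, 1, 2, 0, 1, 0], [2, 0, 3, 0, 3], [1, 0, 0, 1, 3], [1, 2, 1, 0, 3], [3, 1, 2, 0], [1, 0, 0, 1, 2, 0, 3, 0], [3, 1, 1, 0, 1], [0, 0, 1, 3, 1], [1, 3, 1, 2, 0], [0, 0, 1, 2, 0, 3, 0, 1], [1], [0, 0, 3, 1, 1, 0, 3], [2, 0, 1, 0], [1, 2, 0, 3, 0, 3], [1, 1], [2, 0, 1, 0, 1], [1, 2, 0, 1, 0], [0, 0, 1, 1, 2, 0], [0, 0, 1, 3], [2, 1, 0, 3], [3, 1, 1, 0], [0, 0, 1, 2, 0, 3, 0]]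

/-- evaluation of a word -/
def ev (w : List ℕ) : Mdl := (w.map fun k => gens.getD k 1).prod

theorem words : ev (wordL.getD 0 []) = ⟨1, 0⟩ ∧ ev (wordL.getD 1 []) = ⟨3, 0⟩ ∧ ev (wordL.getD 2 []) = ⟨9, 0⟩ ∧
    ∀ s : Fin 24, ev (wordL.getD (3 + s.val) []) = ⟨0, s⟩ := by decide +kernel

theorem decomp : ∀ x : Mdl, x = (⟨1, 0⟩ : Mdl) ^ (x.v.val % 3) * (⟨3, 0⟩ : Mdl) ^ (x.v.val / 3 % 3) *
    (⟨9, 0⟩ : Mdl) ^ (x.v.val / 9) * ⟨0, x.s⟩ := by decide +kernel

theorem nine_gens :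
    nine ⟨1, 0⟩ = Equiv.swap (0 : Fin 9) 1 * Equiv.swap 1 2 ∧
    nine ⟨0, 12⟩ = Equiv.swap (0 : Fin 9) 3 * Equiv.swap 3 6 * (Equiv.swap (1 : Fin 9) 4 * Equiv.swap 4 7) *
      (Equiv.swap (2 : Fin 9) 5 * Equiv.swap 5 8) ∧
    nine ⟨4, 3⟩ = Equiv.swap (0 : Fin 9) 1 * Equiv.swap 3 4 ∧
    nine ⟨9, 8⟩ = Equiv.swap (0 : Fin 9) 3 * Equiv.swap 1 4 * Equiv.swap 2 5 * Equiv.swap 6 7 := by
  refine ⟨Equiv.ext ?_, Equiv.ext ?_, Equiv.ext ?_, Equiv.ext ?_⟩ <;> decide +kernel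

theorem nine_injective : Function.Injective nine := (injective_iff_map_eq_one nine).2 fun x hx =>
  pfun_inj x fun n => by
    have := congrArg (fun p : Equiv.Perm (Fin 9) => p n) hx
    exact this

theorem nine_range : nine.range = Subgroup.closure ({Equiv.swap (0 : Fin 9) 1 * Equiv.swap 1 2,
    Equiv.swap (0 : Fin 9) 3 * Equiv.swap 3 6 * (Equiv.swap (1 : Fin 9) 4 * Equiv.swap 4 7) * (Equiv.swap (2 : Fin 9) 5 * Equiv.swap 5 8),
    Equiv.swap (0 : Fin 9) 1 * Equiv.swap 3 4,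
    Equiv.swap (0 : Fin 9) 3 * Equiv.swap 1 4 * Equiv.swap 2 5 * Equiv.swap 6 7} : Set (Equiv.Perm (Fin 9))) := by
  obtain ⟨g0, g1, g2, g3⟩ := nine_gens
  apply le_antisymm
  · rintro _ ⟨x, rfl⟩
    have hev : ∀ w : List ℕ, nine (ev w) ∈ Subgroup.closure ({Equiv.swap (0 : Fin 9) 1 * Equiv.swap 1 2,
        Equiv.swap (0 : Fin 9) 3 * Equiv.swap 3 6 * (Equiv.swap (1 : Fin 9) 4 * Equiv.swap 4 7) * (Equiv.swap (2 : Fin 9) 5 * Equiv.swap 5 8),
        Equiv.swap (0 : Fin 9) 1 * Equiv.swap 3 4,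
        Equiv.swap (0 : Fin 9) 3 * Equiv.swap 1 4 * Equiv.swap 2 5 * Equiv.swap 6 7} : Set (Equiv.Perm (Fin 9))) := by
      intro w
      induction w with
      | nil => simp [ev]
      | cons k w ih =>
        rw [ev, List.map_cons, List.prod_cons, map_mul]
        refine mul_mem ?_ ih
        rcases k with _ | _ | _ | _ | k
        · exact Subgroup.subset_closure (Or.inl g0)
        · exact Subgroup.subset_closure (Or.inr (Or.inl g1))
        · exact Subgroup.subset_closure (Or.inr (Or.inr (Or.inl g2)))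
        · exact Subgroup.subset_closure (Or.inr (Or.inr (Or.inr g3)))
        · simp [gens]
    obtain ⟨w0, w1, w2, ws⟩ := words
    rw [decomp x, ← w0, ← w1, ← w2, ← ws x.s]
    simp only [map_mul, map_pow]
    exact mul_mem (mul_mem (mul_mem (pow_mem (hev _) _) (pow_mem (hev _) _)) (pow_mem (hev _) _)) (hev _)
  · rw [Subgroup.closure_le]
    rintro _ (rfl | rfl | rfl | rfl)
    exacts [⟨_, g0⟩, ⟨_, g1⟩, ⟨_, g2⟩, ⟨_, g3⟩]

end CfsgLib.Nine
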